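import Groth.Agent.S2202
import Groth.Agent.CAlg9.CIT.TransReg
import Groth.Agent.CAlg6.CompleteFamily
import Groth.Agent.GRing57.LocRegular
import Groth.Agent.EGA4Alg4.FlatReg

/-! A flat local homomorphism with complete intersection target has complete intersection source and fibre. -/

set_option autoImplicit false
set_option linter.unusedSectionVars false
universe u

open CategoryTheory CategoryTheory.Limits IsLocalRing RingTheory.Sequence
open scoped Pointwise

namespace Groth.Agent.TorDimLCI19

theorem flat_stages {A B : Type u} [CommRing A] [CommRing B] [Algebra A B] [IsNoetherianRing A]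
    [IsNoetherianRing B] [IsLocalRing B] (rs : List B) :
    ∀ (M : Type u) [AddCommGroup M] [Module B M] [Module A M] [IsScalarTower A B M] [Module.Finite B M],
      IsWeaklyRegular M rs → (∀ r ∈ rs, r ∈ maximalIdeal B) →
      Module.Flat A (M ⧸ (Ideal.ofList rs • (⊤ : Submodule B M))) →
      ∀ i ≤ rs.length, Module.Flat A (M ⧸ (Ideal.ofList (rs.take i) • (⊤ : Submodule B M))) := by
  induction rs with
  | nil =>
    intro M _ _ _ _ _ _ _ h i hi
    rwa [List.take_nil]
  | cons x l ih =>
    intro M _ _ _ _ _ hw hm hflat i hi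
    rw [isWeaklyRegular_cons_iff] at hw
    have hQ : Module.Flat A (QuotSMulTop x M ⧸ (Ideal.ofList l • (⊤ : Submodule B (QuotSMulTop x M)))) :=
      Module.Flat.of_linearEquiv
        ((Submodule.quotOfListConsSMulTopEquivQuotSMulTopInner M x l).restrictScalars A).symm
    have hih := ih (QuotSMulTop x M) hw.2 (fun r hr => hm r (List.mem_cons_of_mem _ hr)) hQ
    cases i with
    | zero =>
      have h0 := hih 0 (Nat.zero_le _)
      have : Module.Flat A (QuotSMulTop x M) := Module.Flat.of_linearEquiv
        ((Submodule.quotEquivOfEqBot _ (by simp : (Ideal.ofList (l.take 0) •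
          (⊤ : Submodule B (QuotSMulTop x M))) = ⊥)).restrictScalars A).symm
      have := EGA4Alg4.FlatReg13.flat_of_flat_quotSMulTop (A := A) M x (hm x List.mem_cons_self) hw.1
      exact Module.Flat.of_linearEquiv
        ((Submodule.quotEquivOfEqBot _ (by simp : (Ideal.ofList ((x :: l).take 0) •
          (⊤ : Submodule B M)) = ⊥)).restrictScalars A)
    | succ j =>
      rw [List.take_succ_cons]
      have := hih j (by simpa using hi)
      exact Module.Flat.of_linearEquiv
        ((Submodule.quotOfListConsSMulTopEquivQuotSMulTopInner M x (l.take j)).restrictScalars A)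

theorem ci_fibre_of_flat_quotient {A S B : Type u} [CommRing A] [CommRing S] [CommRing B] [IsLocalRing A]
    [IsLocalRing S] [IsLocalRing B] [IsNoetherianRing A] [IsNoetherianRing S] [Algebra A S] [Algebra A B]
    [Module.Flat A S] [Module.Flat A B] [IsLocalHom (algebraMap A B)]
    [hF : IsRegularLocalRing (S ⧸ (maximalIdeal A).map (algebraMap A S))]
    (g : S →ₐ[A] B) (hg : Function.Surjective g) (rs : List S) (hrs : Ideal.ofList rs = RingHom.ker g)
    (hreg : IsRegular S rs) : Pi1.IsCompleteIntersection (EGA4.FibRing A B) := by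
  have : IsLocalHom (algebraMap A S) := ⟨fun a ha => isUnit_of_map_unit (algebraMap A B) a (by
    rw [← AlgHom.commutes g a]; exact ha.map g)⟩
  let iSB : Algebra S B := g.toRingHom.toAlgebra
  have : IsScalarTower A S B := IsScalarTower.of_algebraMap_eq fun a => (AlgHom.commutes g a).symm
  have htop : ∀ gs : List S, (Ideal.ofList gs • ⊤ : Submodule S S) = Ideal.ofList gs := fun gs => by
    rw [Ideal.smul_eq_mul, Ideal.mul_top]
  have hlast : Module.Flat A (S ⧸ (Ideal.ofList rs • (⊤ : Submodule S S))) :=
    Module.Flat.of_linearEquiv ((Submodule.quotEquivOfEq _ _ ((htop rs).trans hrs)).restrictScalars A ≪≫ₗ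
      (Ideal.quotientKerAlgEquivOfSurjective hg).toLinearEquiv)
  have hst := flat_stages rs S hreg.toIsWeaklyRegular
    (fun r hr => le_maximalIdeal (RingHom.ker_ne_top g) (hrs ▸ Ideal.subset_span hr : r ∈ RingHom.ker g)) hlast
  refine ((CAlg9.CIT.transReg_iff A S B hF hg).1 ⟨rs, hrs, hreg.toIsWeaklyRegular, fun i hi => ?_⟩).2
  have := hst i hi
  exact Module.Flat.of_linearEquiv ((Submodule.quotEquivOfEq _ _ (htop (rs.take i)).symm).restrictScalars A)

theorem ci_cpl_iff (A : Type u) [CommRing A] [IsNoetherianRing A] [IsLocalRing A] :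
    Pi1.IsCompleteIntersection (AdicCompletion (maximalIdeal A) A) ↔ Pi1.IsCompleteIntersection A := by
  let e := (AdicCompletion.ofAlgEquiv (maximalIdeal (AdicCompletion (maximalIdeal A) A)) :
    AdicCompletion (maximalIdeal A) A ≃ₐ[AdicCompletion (maximalIdeal A) A] _).toRingEquiv
  constructor
  · rintro ⟨P, _, _, rs, h1, h2, ⟨ψ⟩⟩
    exact ⟨P, inferInstance, inferInstance, rs, h1, h2, ⟨e.trans ψ⟩⟩
  · rintro ⟨P, _, _, rs, h1, h2, ⟨ψ⟩⟩
    exact ⟨P, inferInstance, inferInstance, rs, h1, h2, ⟨e.symm.trans ψ⟩⟩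

theorem ci_base_and_fibre_of_flat {A B : Type u} [CommRing A] [CommRing B] [IsNoetherianRing A]
    [IsNoetherianRing B] [IsLocalRing A] [IsLocalRing B] [Algebra A B] [IsLocalHom (algebraMap A B)]
    [Module.Flat A B] [IsLocalRing (B ⧸ (maximalIdeal A).map (algebraMap A B))]
    (hB : Pi1.IsCompleteIntersection B) :
    Pi1.IsCompleteIntersection A ∧
      Pi1.IsCompleteIntersection (B ⧸ (maximalIdeal A).map (algebraMap A B)) := by
  let Ah := AdicCompletion (maximalIdeal A) A
  let Bh := AdicCompletion (maximalIdeal B) B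
  have := CAlg9.CIT.noetherian_cpl A
  have := CAlg9.CIT.noetherian_cpl B
  have := GRing57.isLocalHom_algebraMap_completion B
  have : IsLocalHom (algebraMap A Bh) := by
    rw [IsScalarTower.algebraMap_eq A B Bh]
    infer_instance
  have : Module.Flat B Bh := AdicCompletion.flat_of_isNoetherian _
  have : Module.Flat A Bh := Module.Flat.trans A B Bh
  obtain ⟨f⟩ := CAlg6.CompleteFamily.exists_algHom_completion (A := A) (R := A) (B' := Bh) (Algebra.ofId A Bh)
    (map_maximalIdeal_le (algebraMap A Bh))
  let iAB : Algebra Ah Bh := f.toRingHom.toAlgebra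
  have : IsScalarTower A Ah Bh := IsScalarTower.of_algebraMap_eq fun a => (f.commutes a).symm
  have hff := GRing57.faithfullyFlat_completion_extension A Bh
  have hm : (maximalIdeal Ah).map (algebraMap Ah Bh) = ((maximalIdeal A).map (algebraMap A B)).map (algebraMap B Bh) := by
    rw [AdicCompletion.maximalIdeal_eq_map, Ideal.map_map, Ideal.map_map, ← IsScalarTower.algebraMap_eq,
      ← IsScalarTower.algebraMap_eq]
  have : IsLocalHom (algebraMap Ah Bh) := by
    refine ((IsLocalRing.local_hom_TFAE _).out 2 0 rfl rfl).mp ?_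
    rw [hm, Ideal.map_map, ← IsScalarTower.algebraMap_eq]
    exact map_maximalIdeal_le (algebraMap A Bh)
  have hfin : Set.Finite {p : ℕ | ¬Subsingleton (DRing.Tor Ah p Bh (ResidueField Ah))} := by
    refine (Set.finite_singleton 0).subset fun p hp => ?_
    cases p with
    | zero => rfl
    | succ i =>
      exact absurd (ModuleCat.isZero_iff_subsingleton.1
        (TorBal94.isZero_tor_of_flat_left Bh (ModuleCat.of Ah (ResidueField Ah)) i)) hp
  obtain ⟨hA, S, _, _, _, _, _, _, g, hg, rs, hrs, hreg⟩ :=
    (S2202.result (A := Ah) (B := Bh)).1 ⟨(ci_cpl_iff B).2 hB, hfin⟩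
  refine ⟨(ci_cpl_iff A).1 hA, (ci_cpl_iff _).1 ?_⟩
  have hfib := ci_fibre_of_flat_quotient g hg rs hrs hreg
  let F := B ⧸ (maximalIdeal A).map (algebraMap A B)
  let e : EGA4.FibRing Ah Bh ≃+* AdicCompletion (maximalIdeal F) F :=
    (Ideal.quotEquivOfEq (by rw [EGA4.mB, hm, Ideal.Quotient.algebraMap_eq, Ideal.mk_ker])).trans
      (EGA4H10.cplQuotEquiv B F Ideal.Quotient.mk_surjective)
  have : Nontrivial (EGA4.FibRing Ah Bh) := e.toEquiv.nontrivial
  have : IsLocalRing (EGA4.FibRing Ah Bh) := IsLocalRing.of_surjective' _ Ideal.Quotient.mk_surjective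
  exact CAlg9.CIT.isCompleteIntersection_of_ringEquiv e hfib

end Groth.Agent.TorDimLCI19
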