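import Groth.Agent.TorDimLCI19.FlatCI
import Groth.Agent.CAlg9.CIT.Fibres

/-! Localizations of complete intersections. -/

set_option autoImplicit false
universe u

open IsLocalRing RingTheory.Sequence

namespace Groth.Agent.TorDimLCI19

theorem ci_localization_of_presentation {P C : Type u} [CommRing P] [CommRing C] [IsRegularRing P]
    (φ : P →+* C) (hφ : Function.Surjective φ) (rs : List P) (hrs : Ideal.ofList rs = RingHom.ker φ)
    (hreg : IsWeaklyRegular P rs) (q : Ideal C) [q.IsPrime] :
    Pi1.IsCompleteIntersection (Localization.AtPrime q) := by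
  let Q := q.comap φ
  let f : Localization.AtPrime Q →+* Localization.AtPrime q := Localization.localRingHom Q q φ rfl
  have hval : ∀ a, f (algebraMap P _ a) = algebraMap C _ (φ a) := fun a =>
    Localization.localRingHom_to_map Q q φ rfl a
  have hsurj : Function.Surjective f := fun z => by
    obtain ⟨⟨c, s⟩, rfl⟩ := IsLocalization.mk'_surjective q.primeCompl z
    obtain ⟨a, rfl⟩ := hφ c
    obtain ⟨s', hs'⟩ := hφ (s : C)
    have hsQ : s' ∈ Q.primeCompl := fun h => s.2 (hs' ▸ (h : φ s' ∈ q))
    refine ⟨IsLocalization.mk' _ a (⟨s', hsQ⟩ : Q.primeCompl), ?_⟩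
    rw [IsLocalization.eq_mk'_iff_mul_eq]
    have e : algebraMap C (Localization.AtPrime q) (s : C) = f (algebraMap P _ s') := by rw [hval, hs']
    rw [e, ← hval, ← map_mul]
    exact congrArg f (IsLocalization.mk'_spec (Localization.AtPrime Q) a ⟨s', hsQ⟩)
  rw [CAlg9.CIT.isCompleteIntersection_iff_isRegularIdeal f hsurj]
  have hker : RingHom.ker f = (Ideal.ofList rs).map (algebraMap P (Localization.AtPrime Q)) := by
    refine le_antisymm (fun z hz => ?_) (Ideal.map_le_iff_le_comap.2 fun a ha => ?_)
    · obtain ⟨⟨a, s⟩, rfl⟩ := IsLocalization.mk'_surjective Q.primeCompl z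
      have h1 : algebraMap C (Localization.AtPrime q) (φ a) = 0 := by
        rw [← hval, ← IsLocalization.mk'_spec (Localization.AtPrime Q) a s, map_mul,
          RingHom.mem_ker.1 hz, zero_mul]
      obtain ⟨t, ht⟩ := (IsLocalization.map_eq_zero_iff q.primeCompl _ _).1 h1
      obtain ⟨u, hu⟩ := hφ (t : C)
      rw [IsLocalization.mk'_mem_iff, IsLocalization.algebraMap_mem_map_algebraMap_iff Q.primeCompl]
      refine ⟨u, fun h => t.2 (hu ▸ h), ?_⟩
      rw [hrs, RingHom.mem_ker, map_mul, hu]
      exact ht
    · rw [Ideal.mem_comap, RingHom.mem_ker, hval, show φ a = 0 from RingHom.mem_ker.1 (hrs ▸ ha : a ∈ RingHom.ker φ), map_zero]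
  refine ⟨rs.map (algebraMap P (Localization.AtPrime Q)), CAlg1.isRegular_of_isWeaklyRegular hreg.of_flat
    (fun y hy => ?_), by rw [← Ideal.map_ofList, hker]⟩
  obtain ⟨x, hx, rfl⟩ := List.mem_map.1 hy
  have hxQ : x ∈ Q := by
    show φ x ∈ q
    rw [show φ x = 0 from (hrs ▸ Ideal.subset_span hx : x ∈ RingHom.ker φ)]
    exact zero_mem q
  rw [← Localization.AtPrime.map_eq_maximalIdeal]
  exact Ideal.mem_map_of_mem _ hxQ

theorem allCI_of_ci {A : Type u} [CommRing A] [IsNoetherianRing A] [IsLocalRing A]
    (hA : Pi1.IsCompleteIntersection A) (p : Ideal A) [p.IsPrime] :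
    Pi1.IsCompleteIntersection (Localization.AtPrime p) := by
  obtain ⟨P, _, _, rs, hm, hreg, ⟨ψ⟩⟩ := hA
  let Ah := AdicCompletion (maximalIdeal A) A
  have := CAlg9.CIT.noetherian_cpl A
  have : Module.Flat A Ah := AdicCompletion.flat_of_isNoetherian _
  have := GRing57.isLocalHom_algebraMap_completion A
  have : Module.FaithfullyFlat A Ah := Module.FaithfullyFlat.of_flat_of_isLocalHom
  obtain ⟨⟨q, hqp⟩, hq⟩ := PrimeSpectrum.comap_surjective_of_faithfullyFlat (A := A) (B := Ah) ⟨p, inferInstance⟩
  have hq' : q.comap (algebraMap A Ah) = p := congrArg PrimeSpectrum.asIdeal hq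
  have := CAlg1.isRegularRing_of_isRegularLocalRing P
  have hB := ci_localization_of_presentation (ψ.symm.toRingHom.comp (Ideal.Quotient.mk _))
    (ψ.symm.surjective.comp Ideal.Quotient.mk_surjective) rs (by
      ext x
      rw [RingHom.mem_ker, RingHom.comp_apply]
      exact Ideal.Quotient.eq_zero_iff_mem.symm.trans (map_eq_zero_iff ψ.symm ψ.symm.injective).symm)
    hreg.toIsWeaklyRegular q
  let f := Localization.localRingHom p q (algebraMap A Ah) hq'.symm
  let iAlg : Algebra (Localization.AtPrime p) (Localization.AtPrime q) := f.toAlgebra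
  have : IsLocalHom (algebraMap (Localization.AtPrime p) (Localization.AtPrime q)) :=
    Localization.isLocalHom_localRingHom p q _ hq'.symm
  have hflat : (algebraMap A Ah).Flat := RingHom.flat_algebraMap_iff.2 inferInstance
  have : Module.Flat (Localization.AtPrime p) (Localization.AtPrime q) :=
    RingHom.Flat.localRingHom hflat q p hq'.symm
  have hloc : IsLocalRing (Localization.AtPrime q ⧸ (maximalIdeal (Localization.AtPrime p)).map
      (algebraMap (Localization.AtPrime p) (Localization.AtPrime q))) := by
    have := Ideal.Quotient.nontrivial_iff.2 (ne_top_of_le_ne_top (maximalIdeal.isMaximal _).ne_top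
      (map_maximalIdeal_le (algebraMap (Localization.AtPrime p) (Localization.AtPrime q))))
    exact IsLocalRing.of_surjective' _ Ideal.Quotient.mk_surjective
  exact (ci_base_and_fibre_of_flat hB).1

theorem allCI_of_maximal {A : Type u} [CommRing A] [IsNoetherianRing A]
    (h : ∀ (m : Ideal A) [m.IsMaximal], Pi1.IsCompleteIntersection (Localization.AtPrime m))
    (p : Ideal A) [p.IsPrime] : Pi1.IsCompleteIntersection (Localization.AtPrime p) := by
  obtain ⟨m, hm, hpm⟩ := Ideal.exists_le_maximal p (Ideal.IsPrime.ne_top inferInstance)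
  let Am := Localization.AtPrime m
  let P := p.map (algebraMap A Am)
  have hdisj : Disjoint (m.primeCompl : Set A) p := Set.disjoint_left.2 fun x hx hxp => hx (hpm hxp)
  have : P.IsPrime := IsLocalization.isPrime_of_isPrime_disjoint m.primeCompl Am p inferInstance hdisj
  have hP : P.comap (algebraMap A Am) = p :=
    IsLocalization.under_map_of_isPrime_disjoint m.primeCompl Am inferInstance hdisj
  have h1 := allCI_of_ci (h m) P
  have := IsLocalization.isLocalization_isLocalization_atPrime_isLocalization m.primeCompl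
    (Localization.AtPrime P) P
  have e : Localization.AtPrime P ≃ₐ[A] Localization.AtPrime (P.comap (algebraMap A Am)) :=
    IsLocalization.algEquiv (P.comap (algebraMap A Am)).primeCompl _ _
  exact CAlg9.CIT.ci_congr hP (CAlg9.CIT.isCompleteIntersection_of_ringEquiv e.toRingEquiv h1)

end Groth.Agent.TorDimLCI19
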