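import Groth.Agent.TorDimLCI19.Avramov
import Groth.Agent.CAlg9.FibProd.Basic
import Groth.Agent.CAlg9.CIT.TransReg
import Groth.Agent.CAlg1.Regular
import Groth.Agent.RelCurve5.Divisor
import Groth.Agent.S2053

/-! Independence of the factorization through a flat algebra with regular closed fibre. -/

set_option autoImplicit false
set_option linter.unusedSectionVars false
universe u

open IsLocalRing RingTheory.Sequence

namespace Groth.Agent.TorDimLCI19

/-- the kernel onto a regular quotient of a regular local ring meets `m²` in `m` times itself -/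
theorem mem_mul_of_mem_sq {R : Type u} [CommRing R] [IsRegularLocalRing R] (I : Ideal R)
    [IsRegularLocalRing (R ⧸ I)] {z : R} (hz : z ∈ I) (hz2 : z ∈ maximalIdeal R * maximalIdeal R) :
    z ∈ maximalIdeal R * I := by
  classical
  obtain ⟨x, c, hc, hx, hI⟩ := CAlg1.exists_params_quotient R _ rfl I
  have hz' : z ∈ Ideal.span (Set.range fun i : Fin c => x (Fin.castLE hc i)) := hI ▸ hz
  obtain ⟨a, rfl⟩ := (Submodule.mem_span_range_iff_exists_fun R).1 hz'
  let b := Function.extend (Fin.castLE hc) a 0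
  have hb : ∀ i, b (Fin.castLE hc i) = a i := fun i => (Fin.castLE_injective hc).extend_apply _ _ _
  have hsum : ∑ l, b l * x l = ∑ i, a i • x (Fin.castLE hc i) := by
    refine (Fintype.sum_of_injective _ (Fin.castLE_injective hc) _ _ (fun l hl => ?_) fun i => ?_).symm
    · rw [show b l = 0 from Function.extend_apply' _ _ _ hl, zero_mul]
    · rw [hb i, smul_eq_mul]
  have hmem := CAlg9.RegSeq.coeff_mem_of_minimal (K := maximalIdeal R) x hx le_rfl b
    (hsum ▸ hz2)
  refine sum_mem fun i _ => Ideal.mul_mem_mul (hb i ▸ hmem _) ?_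
  rw [hI]
  exact Ideal.subset_span ⟨i, rfl⟩

section Descend

variable {A T S : Type u} [CommRing A] [CommRing T] [CommRing S] [IsLocalRing A] [IsLocalRing T]
  [IsLocalRing S] [IsNoetherianRing T] [Algebra A T] [Algebra A S] [IsLocalHom (algebraMap A T)]
  [Module.Flat A T] [Module.Flat A S]

theorem fib_map (φ : T →ₐ[A] S) (hφ : Function.Surjective φ) :
    ((maximalIdeal A).map (algebraMap A T)).map (φ : T →+* S) = (maximalIdeal A).map (algebraMap A S) := by
  rw [Ideal.map_map, φ.comp_algebraMap]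

theorem isRegularIdeal_ker [IsRegularLocalRing (T ⧸ (maximalIdeal A).map (algebraMap A T))]
    [IsRegularLocalRing (S ⧸ (maximalIdeal A).map (algebraMap A S))] [IsLocalHom (algebraMap A S)]
    (φ : T →ₐ[A] S) (hφ : Function.Surjective φ) : CInt.IsRegularIdeal (RingHom.ker φ) := by
  let iAlg : Algebra T S := φ.toRingHom.toAlgebra
  have : IsScalarTower A T S := IsScalarTower.of_algebraMap_eq fun a => (φ.commutes a).symm
  obtain ⟨rs, hrs, hw, -⟩ := (CAlg9.CIT.transReg_iff A T S ‹_› hφ).2
    ⟨inferInstance, CAlg9.CIT.isCompleteIntersection_of_isRegularLocalRing _⟩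
  exact ⟨rs, CAlg1.isRegular_of_isWeaklyRegular hw fun r hr =>
    le_maximalIdeal (RingHom.ker_ne_top φ) (hrs ▸ Ideal.subset_span hr : r ∈ RingHom.ker φ), hrs⟩

theorem ker_mul_sq [IsRegularLocalRing (T ⧸ (maximalIdeal A).map (algebraMap A T))]
    [IsRegularLocalRing (S ⧸ (maximalIdeal A).map (algebraMap A S))]
    (φ : T →ₐ[A] S) (hφ : Function.Surjective φ) {x : T} (hx : x ∈ RingHom.ker φ)
    (hx2 : x ∈ maximalIdeal T * maximalIdeal T) : x ∈ maximalIdeal T * RingHom.ker φ := by
  let L := RingHom.ker φ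
  let M₀ := (maximalIdeal A).map (algebraMap A T)
  let π := Ideal.Quotient.mk M₀
  have hM₀ : M₀ ≤ maximalIdeal T := map_maximalIdeal_le _
  have hflat : Module.Flat A (T ⧸ L) :=
    Module.Flat.of_linearEquiv (Ideal.quotientKerAlgEquivOfSurjective hφ).toLinearEquiv
  let e : (T ⧸ L) ≃+* S := RingHom.quotientKerEquivOfSurjective (f := (φ : T →+* S)) hφ
  have hreg : IsRegularLocalRing ((T ⧸ M₀) ⧸ L.map π) := by
    refine IsRegularLocalRing.of_ringEquiv ((DoubleQuot.quotQuotEquivComm M₀ L).trans (Ideal.quotientEquiv _ ((maximalIdeal A).map (algebraMap A S)) e ?_)).symm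
    rw [Ideal.map_map, ← fib_map φ hφ]
    rfl
  have hmax : (maximalIdeal T).map π = maximalIdeal (T ⧸ M₀) :=
    IsLocalRing.map_maximalIdeal_of_surjective π Ideal.Quotient.mk_surjective
  have h2 : π x ∈ maximalIdeal (T ⧸ M₀) * L.map π := by
    refine mem_mul_of_mem_sq _ (Ideal.mem_map_of_mem π hx) ?_
    rw [← hmax, ← Ideal.map_mul]
    exact Ideal.mem_map_of_mem π hx2
  rw [← hmax, ← Ideal.map_mul, Ideal.mem_map_iff_of_surjective _ Ideal.Quotient.mk_surjective] at h2
  obtain ⟨a, ha, hax⟩ := h2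
  have h3 : x - a ∈ L ⊓ M₀ :=
    ⟨sub_mem hx (Ideal.mul_le_right ha), Ideal.Quotient.eq.1 hax.symm⟩
  have h4 : x - a ∈ maximalIdeal T * L :=
    Ideal.mul_mono_left hM₀ (RelCurve5.inf_map_le_of_flat L (maximalIdeal A) h3)
  simpa using add_mem h4 ha

theorem isRegularIdeal_comp_iff [IsRegularLocalRing (T ⧸ (maximalIdeal A).map (algebraMap A T))]
    [IsRegularLocalRing (S ⧸ (maximalIdeal A).map (algebraMap A S))] [IsLocalHom (algebraMap A S)]
    (φ : T →ₐ[A] S) (hφ : Function.Surjective φ) {B : Type u} [CommRing B] [IsLocalRing B] (g : S →+* B) :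
    CInt.IsRegularIdeal (RingHom.ker (g.comp (φ : T →+* S))) ↔ CInt.IsRegularIdeal (RingHom.ker g) := by
  let L := RingHom.ker φ
  let K := RingHom.ker (g.comp (φ : T →+* S))
  let e : (T ⧸ L) ≃+* S := RingHom.quotientKerEquivOfSurjective (f := (φ : T →+* S)) hφ
  have hLK : L ≤ K := fun x hx => by
    show g (φ x) = 0
    rw [show φ x = 0 from hx, map_zero]
  have hK : K ≤ maximalIdeal T := le_maximalIdeal (RingHom.ker_ne_top _)
  have hmap : (K.map (Ideal.Quotient.mk L)).map (e : (T ⧸ L) →+* S) = RingHom.ker g := by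
    rw [Ideal.map_map]
    exact Ideal.map_comap_of_surjective (φ : T →+* S) hφ (RingHom.ker g)
  constructor
  · intro h
    rw [← hmap]
    refine isRegularIdeal_map_ringEquiv e (regular_pair L K hLK (RingHom.ker_ne_top _) (fun x hx hxm => ?_) h).2
    exact ker_mul_sq φ hφ hx (Ideal.mul_mono_right hK hxm)
  · intro h
    have h1 := isRegularIdeal_map_ringEquiv e.symm h
    rw [← hmap, Ideal.map_of_equiv] at h1
    exact CAlg9.RegSeq.regular_of_quotient L K hLK hK (isRegularIdeal_ker φ hφ) h1

end Descend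

theorem exists_flat_cover {A U : Type u} [CommRing A] [CommRing U] [IsNoetherianRing A] [IsNoetherianRing U]
    [IsLocalRing A] [IsLocalRing U] [IsAdicComplete (maximalIdeal A) A] [IsAdicComplete (maximalIdeal U) U]
    [Algebra A U] [IsLocalHom (algebraMap A U)] :
    ∃ (T : Type u) (_ : CommRing T) (_ : IsNoetherianRing T) (_ : IsLocalRing T) (_ : Algebra A T)
      (_ : Module.Flat A T) (_ : IsRegularLocalRing (T ⧸ (maximalIdeal A).map (algebraMap A T)))
      (_ : IsLocalHom (algebraMap A T)) (π : T →ₐ[A] U), Function.Surjective π := by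
  obtain ⟨Λ, Λ', _, _, _, n, m, ρ, σ, τ, hΛ, hρ, hσ, hcomm, hflat, hF⟩ :=
    S2053.result (A := A) (B := U)
  have hloc' : IsLocalRing Λ' := by
    rcases hΛ with ⟨-, -, h⟩ | ⟨-, -, ⟨_, _, -⟩⟩
    · let := h.toField
      infer_instance
    · infer_instance
  have hEGA : EGA41.IsCohenRingEGA Λ ∧ EGA41.IsCohenRingEGA Λ' := by
    rcases hΛ with ⟨hz, h1, h2⟩ | ⟨-, h1, h2⟩
    · refine ⟨Or.inl ⟨h1, ?_⟩, Or.inl ⟨h2, ?_⟩⟩
      · exact (((residue A).comp ρ).comp MvPowerSeries.C).charZero
      · have : CharZero (ResidueField U) :=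
          charZero_of_injective_ringHom (ResidueField.map (algebraMap A U)).injective
        exact (((residue U).comp σ).comp MvPowerSeries.C).charZero
    · exact ⟨Or.inr h1, Or.inr h2⟩
  have := (Cohen12.regular_powerSeries_cohen n hEGA.1).1
  have := (Cohen12.regular_powerSeries_cohen m hEGA.2).1
  exact cover_of_presentation ρ σ τ hρ hσ hcomm hflat hF

section Reduce

variable {A B S : Type u} [CommRing A] [CommRing B] [CommRing S] [IsNoetherianRing A] [IsNoetherianRing B]
  [IsNoetherianRing S] [IsLocalRing A] [IsLocalRing B] [IsLocalRing S]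
  [IsAdicComplete (maximalIdeal B) B] [Algebra A B] [Algebra A S] [IsLocalHom (algebraMap A B)]
  [Module.Flat A S]

theorem isLocalHom_of_factor (g : S →ₐ[A] B) : IsLocalHom (algebraMap A S) :=
  ⟨fun a ha => isUnit_of_map_unit (algebraMap A B) a (by rw [← AlgHom.commutes g a]; exact ha.map g)⟩

theorem exists_complete_factor [hF : IsRegularLocalRing (S ⧸ (maximalIdeal A).map (algebraMap A S))]
    (g : S →ₐ[A] B) (hg : Function.Surjective g) :
    ∃ (C : Type u) (_ : CommRing C) (_ : IsNoetherianRing C) (_ : IsLocalRing C)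
      (_ : IsAdicComplete (maximalIdeal C) C) (_ : Algebra A C) (_ : Module.Flat A C)
      (_ : IsRegularLocalRing (C ⧸ (maximalIdeal A).map (algebraMap A C)))
      (h : C →ₐ[A] B), Function.Surjective h ∧
        (CInt.IsRegularIdeal (RingHom.ker g) ↔ CInt.IsRegularIdeal (RingHom.ker h)) := by
  let C := AdicCompletion (maximalIdeal S) S
  have := CAlg9.CIT.noetherian_cpl S
  let iSB : Algebra S B := g.toRingHom.toAlgebra
  let q : C →+* AdicCompletion (maximalIdeal B) B := EGA4H10.cplMap S B hg
  let eB : B ≃ₐ[B] AdicCompletion (maximalIdeal B) B := AdicCompletion.ofAlgEquiv _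
  let h₀ : C →+* B := (eB.symm.toRingEquiv : AdicCompletion (maximalIdeal B) B →+* B).comp q
  have hcomm : ∀ s : S, h₀ (algebraMap S C s) = g s := fun s => by
    show eB.symm (q _) = _
    rw [EGA4H10.cplMap_algebraMap, AlgEquiv.commutes]
    rfl
  let h : C →ₐ[A] B :=
    { h₀ with
      commutes' := fun a => by
        show h₀ _ = _
        rw [IsScalarTower.algebraMap_apply A S C, hcomm, AlgHom.commutes] }
  have hker : RingHom.ker h = (RingHom.ker g).map (algebraMap S C) := by
    refine Eq.trans ?_ (EGA4H10.ker_cplMap S B hg)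
    ext x
    exact map_eq_zero_iff eB.symm eB.symm.injective
  have : Module.Flat S C := AdicCompletion.flat_of_isNoetherian _
  have := isLocalHom_of_factor g
  have : Module.Flat A C := Module.Flat.trans A S C
  let M₀ := (maximalIdeal A).map (algebraMap A S)
  have hM : (maximalIdeal A).map (algebraMap A C) = M₀.map (algebraMap S C) := by
    rw [Ideal.map_map, ← IsScalarTower.algebraMap_eq]
  let F := S ⧸ M₀
  have : IsRegularLocalRing (AdicCompletion (maximalIdeal F) F) := (S0548.result F).1 hF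
  have hreg : IsRegularLocalRing (C ⧸ (maximalIdeal A).map (algebraMap A C)) :=
    IsRegularLocalRing.of_ringEquiv ((EGA4H10.cplQuotEquiv S F Ideal.Quotient.mk_surjective).symm.trans
      (Ideal.quotEquivOfEq (by rw [hM, Ideal.Quotient.algebraMap_eq, Ideal.mk_ker])))
  refine ⟨C, inferInstance, inferInstance, inferInstance, inferInstance, inferInstance, inferInstance, hreg,
    h, eB.symm.surjective.comp (EGA4H10.cplMap_surjective S B hg), ?_⟩
  rw [hker]
  exact ⟨isRegularIdeal_map (RingHom.ker_ne_top g), isRegularIdeal_of_map (RingHom.ker_ne_top g)⟩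

end Reduce

variable {A B : Type u} [CommRing A] [CommRing B] [IsNoetherianRing A] [IsNoetherianRing B]
  [IsLocalRing A] [IsLocalRing B] [IsAdicComplete (maximalIdeal A) A]
  [IsAdicComplete (maximalIdeal B) B] [Algebra A B] [IsLocalHom (algebraMap A B)]

theorem isRegularIdeal_ker_indep {S S' : Type u} [CommRing S] [CommRing S'] [IsNoetherianRing S]
    [IsNoetherianRing S'] [IsLocalRing S] [IsLocalRing S'] [Algebra A S] [Algebra A S'] [Module.Flat A S]
    [Module.Flat A S'] [IsRegularLocalRing (S ⧸ (maximalIdeal A).map (algebraMap A S))]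
    [IsRegularLocalRing (S' ⧸ (maximalIdeal A).map (algebraMap A S'))]
    (g : S →ₐ[A] B) (g' : S' →ₐ[A] B) (hg : Function.Surjective g) (hg' : Function.Surjective g') :
    CInt.IsRegularIdeal (RingHom.ker g) ↔ CInt.IsRegularIdeal (RingHom.ker g') := by
  obtain ⟨E, _, _, _, _, _, _, _, f, hf, hEiff⟩ := exists_complete_factor g hg
  obtain ⟨F, _, _, _, _, _, _, _, f', hf', hFiff⟩ := exists_complete_factor g' hg'
  rw [hEiff, hFiff]
  have := isLocalHom_of_factor f
  have := isLocalHom_of_factor f'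
  have : IsLocalHom (f' : F →+* B) := IsLocalHom.of_surjective _ hf'
  let U := ↥((f : E →+* B).pullback (f' : F →+* B))
  have : IsLocalRing U := CAlg9.FibProd.isLocalRing (f : E →+* B) (f' : F →+* B)
  have : IsNoetherianRing U := CAlg9.FibProd.isNoetherianRing (f : E →+* B) (f' : F →+* B) hf hf'
  have : IsAdicComplete (maximalIdeal U) U := CAlg9.FibProd.isAdicComplete (f : E →+* B) (f' : F →+* B) hf hf'
  let ι : A →+* U := ((algebraMap A E).prod (algebraMap A F)).codRestrict _ fun a =>
    show f (algebraMap A E a) = f' (algebraMap A F a) by rw [AlgHom.commutes, AlgHom.commutes]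
  let iAU : Algebra A U := ι.toAlgebra
  let p : U →ₐ[A] E := { CAlg9.FibProd.p1 (f : E →+* B) (f' : F →+* B) with commutes' := fun a => rfl }
  let p' : U →ₐ[A] F := { CAlg9.FibProd.p2 (f : E →+* B) (f' : F →+* B) with commutes' := fun a => rfl }
  have : IsLocalHom (algebraMap A U) := ⟨fun a ha => isUnit_of_map_unit (algebraMap A E) a (by
    rw [← AlgHom.commutes p a]; exact ha.map p)⟩
  obtain ⟨T, _, _, _, _, _, _, _, π, hπ⟩ := exists_flat_cover (A := A) (U := U)
  have h1 := isRegularIdeal_comp_iff (p.comp π)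
    ((CAlg9.FibProd.p1_surjective (f : E →+* B) (f' : F →+* B) hf').comp hπ) (f : E →+* B)
  have h2 := isRegularIdeal_comp_iff (p'.comp π)
    ((CAlg9.FibProd.p2_surjective (f : E →+* B) (f' : F →+* B) hf).comp hπ) (f' : F →+* B)
  have heq : (f : E →+* B).comp (p.comp π : T →ₐ[A] E).toRingHom =
      (f' : F →+* B).comp (p'.comp π : T →ₐ[A] F).toRingHom := RingHom.ext fun t => (π t).2
  exact h1.symm.trans ((Iff.of_eq (congrArg (fun φ => CInt.IsRegularIdeal (RingHom.ker φ)) heq)).trans h2)

end Groth.Agent.TorDimLCI19
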