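import Groth.Agent.LA18.TorSymm
import Groth.Agent.TorBal94.FirstVariable
import Groth.Agent.EGA4Alg4.TorPD

/-! Elementary properties of `Tor` used for Tor dimension along regular sequences. -/

set_option autoImplicit false
set_option linter.style.haveILetI false
universe u

open CategoryTheory CategoryTheory.Limits MonoidalCategory

namespace Groth.Agent.TorDimLCI19

variable {A : Type u} [CommRing A]

theorem isZero_tor_congr_left {V V' : Type u} [AddCommGroup V] [Module A V] [AddCommGroup V']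
    [Module A V'] (e : V ≃ₗ[A] V') (S : ModuleCat.{u} A) (i : ℕ)
    (h : IsZero (((Tor (ModuleCat.{u} A) i).obj (ModuleCat.of A V)).obj S)) :
    IsZero (((Tor (ModuleCat.{u} A) i).obj (ModuleCat.of A V')).obj S) :=
  h.of_iso (((Tor (ModuleCat.{u} A) i).mapIso e.toModuleIso).app S).symm

theorem isZero_tor_symm {V W : Type u} [AddCommGroup V] [Module A V] [AddCommGroup W] [Module A W]
    (i : ℕ) (h : IsZero (((Tor (ModuleCat.{u} A) i).obj (ModuleCat.of A V)).obj (ModuleCat.of A W))) :
    IsZero (((Tor (ModuleCat.{u} A) i).obj (ModuleCat.of A W)).obj (ModuleCat.of A V)) :=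
  h.of_iso (LA18.tor_symm W V i).some.toModuleIso

theorem isZero_tor_right {M₁ M₂ M₃ : Type u} [AddCommGroup M₁] [Module A M₁] [AddCommGroup M₂]
    [Module A M₂] [AddCommGroup M₃] [Module A M₃] (f : M₁ →ₗ[A] M₂) (g : M₂ →ₗ[A] M₃)
    (hf : Function.Injective f) (hfg : Function.Exact f g) (hg : Function.Surjective g)
    (S : ModuleCat.{u} A) (i : ℕ)
    (h1 : IsZero (((Tor (ModuleCat.{u} A) i).obj (ModuleCat.of A M₁)).obj S))
    (h2 : IsZero (((Tor (ModuleCat.{u} A) (i + 1)).obj (ModuleCat.of A M₂)).obj S)) :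
    IsZero (((Tor (ModuleCat.{u} A) (i + 1)).obj (ModuleCat.of A M₃)).obj S) := by
  rw [TorBal94.isZero_tor_iff] at h1 h2 ⊢
  have := (TorBal94.shortExact_cx f g hf hfg hg S).homology_exact₃ (i + 1) i rfl
  exact this.isZero_of_both_zeros (h2.eq_of_src _ _) (h1.eq_of_tgt _ _)

end Groth.Agent.TorDimLCI19
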