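import Groth.Prelude.Def_DRing2
import Groth.Agent.TorDimLCI19.TorBasic
import Groth.Agent.IntMult12.TorVanish
import Mathlib.Data.Matrix.Block
import Mathlib.LinearAlgebra.Matrix.ToLin

/-!
If `A/J` has finite Tor dimension over `A/I` then `I/mI → J/mJ` is injective.

An element `x ∈ I ∩ mJ` gives a periodic complex whose Eisenbud operator is invertible; comparing
with a finite free resolution shows `x ∈ mI`.
-/

set_option autoImplicit false
set_option linter.unusedSectionVars false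
universe u

open CategoryTheory Matrix IsLocalRing

namespace Groth.Agent.TorDimLCI19

variable {A : Type u} [CommRing A]

/-- matrix factorizations with entries in `m` and distinguished row in `J` -/
def HasMF (m J : Ideal A) (x : A) : Prop :=
  ∃ (N : ℕ) (i₀ : Fin N) (φ ψ : Matrix (Fin N) (Fin N) A),
    φ * ψ = x • 1 ∧ ψ * φ = x • 1 ∧ (∀ i j, φ i j ∈ m) ∧ (∀ i j, ψ i j ∈ m) ∧ ∀ j, φ i₀ j ∈ J

theorem hasMF_zero (m J : Ideal A) : HasMF m J (0 : A) :=
  ⟨1, 0, 0, 0, by simp, by simp, fun _ _ => by simp, fun _ _ => by simp, fun _ => by simp⟩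

theorem hasMF_add_mul {m J : Ideal A} (hJ : J ≤ m) {x a y : A} (ha : a ∈ m) (hy : y ∈ J)
    (h : HasMF m J x) : HasMF m J (x + a * y) := by
  obtain ⟨N, i₀, φ, ψ, h1, h2, hφ, hψ, hr⟩ := h
  let e := (finSumFinEquiv (m := N) (n := N)).symm
  let φ' := fromBlocks φ (y • (1 : Matrix (Fin N) (Fin N) A)) ((-a) • 1) ψ
  let ψ' := fromBlocks ψ ((-y) • (1 : Matrix (Fin N) (Fin N) A)) (a • 1) φ
  have hone : (x + a * y) • (1 : Matrix (Fin N ⊕ Fin N) (Fin N ⊕ Fin N) A) =
      fromBlocks ((x + a * y) • 1) 0 0 ((x + a * y) • 1) := by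
    rw [← fromBlocks_one, fromBlocks_smul, smul_zero]
  have p1 : φ' * ψ' = (x + a * y) • 1 := by
    rw [hone]
    simp only [φ', ψ', fromBlocks_multiply, h1, h2, Matrix.mul_smul, Matrix.smul_mul, Matrix.mul_one,
      Matrix.one_mul, smul_smul]
    congr 1
    · rw [← add_smul]
    · rw [← add_smul, neg_add_cancel, zero_smul]
    · rw [← add_smul, neg_add_cancel, zero_smul]
    · rw [← add_smul]; congr 1 <;> ring
  have p2 : ψ' * φ' = (x + a * y) • 1 := by
    rw [hone]
    simp only [φ', ψ', fromBlocks_multiply, h1, h2, Matrix.mul_smul, Matrix.smul_mul, Matrix.mul_one,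
      Matrix.one_mul, smul_smul]
    congr 1
    · rw [← add_smul]; congr 1 <;> ring
    · rw [← add_smul, add_neg_cancel, zero_smul]
    · rw [← add_smul, add_neg_cancel, zero_smul]
    · rw [← add_smul]; congr 1 <;> ring
  have hym : y ∈ m := hJ hy
  have hs : ∀ (c : A) (I' : Ideal A), c ∈ I' → ∀ i j : Fin N,
      (c • (1 : Matrix (Fin N) (Fin N) A)) i j ∈ I' := fun c I' hc i j => by
    rw [Matrix.smul_apply, smul_eq_mul]; exact I'.mul_mem_right _ hc
  refine ⟨N + N, finSumFinEquiv (Sum.inl i₀), φ'.submatrix e e, ψ'.submatrix e e, ?_, ?_,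
    fun i j => ?_, fun i j => ?_, fun j => ?_⟩
  · rw [submatrix_mul_equiv, p1]; simp [submatrix_smul, submatrix_one_equiv]
  · rw [submatrix_mul_equiv, p2]; simp [submatrix_smul, submatrix_one_equiv]
  · rw [submatrix_apply]
    rcases e i with i | i <;> rcases e j with j | j <;> simp only [φ', fromBlocks_apply₁₁,
      fromBlocks_apply₁₂, fromBlocks_apply₂₁, fromBlocks_apply₂₂]
    exacts [hφ i j, hs y m hym i j, hs (-a) m (neg_mem ha) i j, hψ i j]
  · rw [submatrix_apply]
    rcases e i with i | i <;> rcases e j with j | j <;> simp only [ψ', fromBlocks_apply₁₁,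
      fromBlocks_apply₁₂, fromBlocks_apply₂₁, fromBlocks_apply₂₂]
    exacts [hψ i j, hs (-y) m (neg_mem hym) i j, hs a m ha i j, hφ i j]
  · rw [submatrix_apply, show e (finSumFinEquiv (Sum.inl i₀)) = Sum.inl i₀ from
      Equiv.symm_apply_apply _ _]
    rcases e j with j | j <;> simp only [φ', fromBlocks_apply₁₁, fromBlocks_apply₁₂]
    exacts [hr j, hs y J hy i₀ j]

theorem hasMF_of_mem {m J : Ideal A} (hJ : J ≤ m) {x : A} (hx : x ∈ m * J) : HasMF m J x := by
  have key : ∀ z ∈ m * J, ∀ w, HasMF m J w → HasMF m J (w + z) := by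
    intro z hz
    refine Submodule.mul_induction_on hz (fun a ha y hy w hw => hasMF_add_mul hJ ha hy hw)
      fun u v hu hv w hw => ?_
    rw [← add_assoc]
    exact hv _ (hu w hw)
  simpa using key x hx 0 (hasMF_zero m J)

section Lift

variable {r : ℕ} {M : Type*} [AddCommGroup M] [Module A M]

/-- vectors with coordinates in `I` -/
def coordsIn (I : Ideal A) (r : ℕ) : Submodule A (Fin r → A) where
  carrier := {v | ∀ j, v j ∈ I}
  add_mem' h1 h2 j := I.add_mem (h1 j) (h2 j)
  zero_mem' j := I.zero_mem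
  smul_mem' c _ h j := I.mul_mem_left c (h j)

theorem mem_coordsIn {I : Ideal A} {v : Fin r → A} : v ∈ coordsIn I r ↔ ∀ j, v j ∈ I := Iff.rfl

theorem map_coordsIn {s : ℕ} (D : (Fin r → A) →ₗ[A] (Fin s → A)) {I : Ideal A} {v : Fin r → A}
    (hv : v ∈ coordsIn I r) : D v ∈ coordsIn I s := by
  intro j
  rw [pi_eq_sum_univ v, map_sum, Finset.sum_apply]
  refine I.sum_mem fun b _ => ?_
  rw [map_smul, Pi.smul_apply, smul_eq_mul]
  exact I.mul_mem_right _ (hv b)

/-- a lift of a map from a finite free module through an inclusion of images -/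
theorem exists_lift {s : ℕ} (g : (Fin r → A) →ₗ[A] (Fin s → A)) {t : ℕ}
    (D : (Fin t → A) →ₗ[A] (Fin s → A)) {I : Ideal A}
    (h : ∀ v, ∃ w, g v - D w ∈ coordsIn I s) :
    ∃ f : (Fin r → A) →ₗ[A] (Fin t → A), ∀ v, g v - D (f v) ∈ coordsIn I s := by
  classical
  choose w hw using fun b : Fin r => h (Pi.single b 1)
  refine ⟨Fintype.linearCombination A w, fun v => ?_⟩
  have : g v - D (Fintype.linearCombination A w v) = ∑ b, v b • (g (Pi.single b 1) - D (w b)) := by
    conv_lhs => arg 1; rw [pi_eq_sum_univ' v, map_sum]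
    simp only [Fintype.linearCombination_apply, map_sum, map_smul, smul_sub, Finset.sum_sub_distrib]
  rw [this]
  exact Submodule.sum_mem _ fun b _ => Submodule.smul_mem _ _ (hw b)

end Lift

/-- a free resolution of `A ⧸ J` over `A ⧸ I`, lifted to `A` -/
structure LiftedRes (I J : Ideal A) where
  r : ℕ → ℕ
  D : ∀ i, (Fin (r (i + 1)) → A) →ₗ[A] (Fin (r i) → A)
  ε : (Fin (r 0) → A) →ₗ[A] A ⧸ J
  N : ℕ
  bound : ∀ i, N < i → r i = 0
  surj : Function.Surjective ε
  aug : ∀ v, ε (D 0 v) = 0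
  exact0 : ∀ v, ε v = 0 → ∃ w, v - D 0 w ∈ coordsIn I (r 0)
  sq : ∀ i v, D i (D (i + 1) v) ∈ coordsIn I (r i)
  exact : ∀ i v, D i v ∈ coordsIn I (r i) → ∃ w, v - D (i + 1) w ∈ coordsIn I (r (i + 1))

theorem exists_liftedRes [IsNoetherianRing A] [IsLocalRing A] (I J : Ideal A) (hIJ : I ≤ J)
    (hJ : J ≠ ⊤) [Algebra (A ⧸ I) (A ⧸ J)] [IsScalarTower A (A ⧸ I) (A ⧸ J)]
    (hfd : DRing.HasFiniteTorDim (A ⧸ I) (A ⧸ J)) : Nonempty (LiftedRes I J) := by
  classical
  let R := A ⧸ I
  have : Nontrivial (A ⧸ I) := Ideal.Quotient.nontrivial_iff.2 fun h => hJ (top_le_iff.1 (h ▸ hIJ))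
  have : IsLocalRing (A ⧸ I) := IsLocalRing.of_surjective' (Ideal.Quotient.mk I) Ideal.Quotient.mk_surjective
  have : Module.Finite (A ⧸ I) (A ⧸ J) := Module.Finite.of_restrictScalars_finite A (A ⧸ I) (A ⧸ J)
  obtain ⟨n, hn⟩ := hfd
  have hpd : HasProjectiveDimensionLT (ModuleCat.of (A ⧸ I) (A ⧸ J)) (n + 1) :=
    EGA4Alg4.hasProjectiveDimensionLT_of_isZero_tor n (A ⧸ J) (isZero_tor_symm (n + 1) (by
      have := hn (IsLocalRing.ResidueField (A ⧸ I)) (n + 1) (Nat.lt_succ_self n)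
      exact ModuleCat.isZero_of_subsingleton _))
  obtain ⟨X, d, f, hX, hz, hf, h0, hs⟩ := IntMult12.exists_free_resolution (A := A ⧸ I) n (A ⧸ J) hpd
  let r : ℕ → ℕ := fun i => if n < i then 0 else (@Module.finrank (A ⧸ I) (X i) _ _ _)
  have heq : ∀ i, Nonempty ((Fin (r i) → A ⧸ I) ≃ₗ[A ⧸ I] X i) := fun i => by
    have := (hX i).1; have := (hX i).2
    by_cases hi : n < i
    · have : Subsingleton (X i) := ModuleCat.subsingleton_of_isZero (hz i hi)
      have : IsEmpty (Fin (r i)) := by rw [show r i = 0 from if_pos hi]; infer_instance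
      exact ⟨LinearEquiv.ofSubsingleton _ _⟩
    · rw [show r i = Module.finrank (A ⧸ I) (X i) from if_neg hi]
      exact ⟨(Module.finBasis (A ⧸ I) (X i)).equivFun.symm⟩
  let b := fun i => (heq i).some
  let π : ∀ i, (Fin (r i) → A) → X i := fun i v => b i fun j => Ideal.Quotient.mk I (v j)
  have πadd : ∀ i v w, π i (v + w) = π i v + π i w := fun i v w => by
    show b i _ = b i _ + b i _
    rw [← map_add]; congr 1
  have πsmul : ∀ i (a : A) v, π i (a • v) = Ideal.Quotient.mk I a • π i v := fun i a v => by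
    show b i _ = _ • b i _
    rw [← map_smul]; congr 1
  have πsurj : ∀ i z, ∃ v, π i v = z := fun i z => by
    choose v hv using fun j => Ideal.Quotient.mk_surjective ((b i).symm z j)
    exact ⟨v, by simp only [π, funext hv]; exact (b i).apply_symm_apply z⟩
  have πker : ∀ i v, π i v = 0 ↔ v ∈ coordsIn I (r i) := fun i v => by
    show b i _ = 0 ↔ _
    rw [LinearEquiv.map_eq_zero_iff, funext_iff, mem_coordsIn]
    exact forall_congr' fun j => Ideal.Quotient.eq_zero_iff_mem
  have πsub : ∀ i v w, π i (v - w) = π i v - π i w := fun i v w =>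
    eq_sub_of_add_eq (by rw [← πadd, sub_add_cancel])
  have πsum : ∀ i {ι : Type} (s : Finset ι) (g : ι → Fin (r i) → A),
      π i (∑ j ∈ s, g j) = ∑ j ∈ s, π i (g j) := fun i {ι} s g => by
    induction s using Finset.induction_on with
    | empty => rw [Finset.sum_empty, Finset.sum_empty, πker]; exact Submodule.zero_mem _
    | insert a s ha ih => rw [Finset.sum_insert ha, Finset.sum_insert ha, πadd, ih]
  choose c hc using fun i (j : Fin (r (i + 1))) => πsurj i (d i (π (i + 1) (Pi.single j 1)))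
  let D : ∀ i, (Fin (r (i + 1)) → A) →ₗ[A] (Fin (r i) → A) := fun i =>
    Fintype.linearCombination A (c i)
  have hD : ∀ i v, π i (D i v) = d i (π (i + 1) v) := fun i v => by
    conv_rhs => rw [pi_eq_sum_univ' v, πsum, map_sum]
    show π i (Fintype.linearCombination A (c i) v) = _
    rw [Fintype.linearCombination_apply, πsum]
    exact Finset.sum_congr rfl fun j _ => by rw [πsmul, πsmul, map_smul, hc]
  let ε : (Fin (r 0) → A) →ₗ[A] A ⧸ J :=
    { toFun := fun v => f (π 0 v)
      map_add' := fun v w => by rw [πadd, map_add]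
      map_smul' := fun a v => by
        rw [πsmul, map_smul, RingHom.id_apply, ← Ideal.Quotient.algebraMap_eq, algebraMap_smul] }
  refine ⟨⟨r, D, ε, n, fun i hi => if_pos hi, fun z => ?_, fun v => ?_, fun v hv => ?_,
    fun i v => ?_, fun i v hv => ?_⟩⟩
  · obtain ⟨y, rfl⟩ := hf z
    obtain ⟨v, rfl⟩ := πsurj 0 y
    exact ⟨v, rfl⟩
  · show f (π 0 (D 0 v)) = 0
    rw [hD, ← LinearMap.mem_ker, h0]
    exact LinearMap.mem_range_self _ _
  · have : π 0 v ∈ LinearMap.range (d 0) := h0 ▸ (LinearMap.mem_ker.2 hv)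
    obtain ⟨y, hy⟩ := this
    obtain ⟨w, rfl⟩ := πsurj 1 y
    exact ⟨w, (πker 0 _).1 (by rw [πsub, hD, hy, sub_self])⟩
  · refine (πker i _).1 ?_
    rw [hD, hD, ← LinearMap.mem_ker, hs i]
    exact LinearMap.mem_range_self _ _
  · have h1 : d i (π (i + 1) v) = 0 := by rw [← hD]; exact (πker i _).2 hv
    have : π (i + 1) v ∈ LinearMap.range (d (i + 1)) := hs i ▸ (LinearMap.mem_ker.2 h1)
    obtain ⟨y, hy⟩ := this
    obtain ⟨w, rfl⟩ := πsurj (i + 1 + 1) y
    exact ⟨w, (πker (i + 1) _).1 (by rw [πsub, hD, hy, sub_self])⟩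

theorem not_mem_of_mf [IsLocalRing A] {I J : Ideal A} (hI : I ≤ maximalIdeal A)
    (hJ : J ≤ maximalIdeal A) (L : LiftedRes I J) {x : A} (hx : x ∈ I)
    (hmf : HasMF (maximalIdeal A) J x) : x ∈ maximalIdeal A * I := by
  classical
  by_contra hxm
  obtain ⟨N, i₀, φ, ψ, h1, h2, hφ, hψ, hrow⟩ := hmf
  let m := maximalIdeal A
  let δ : ℕ → (Fin N → A) →ₗ[A] (Fin N → A) := fun i =>
    if Even i then φ.mulVecLin else ψ.mulVecLin
  have hδδ : ∀ i v, δ i (δ (i + 1) v) = x • v := fun i v => by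
    rcases Nat.even_or_odd i with he | ho
    · simp only [δ, he, if_true, if_neg (Nat.not_even_iff_odd.2 he.add_one), mulVecLin_apply,
        mulVec_mulVec, h1, smul_mulVec, one_mulVec]
    · simp only [δ, if_neg (Nat.not_even_iff_odd.2 ho), ho.add_one, if_true, mulVecLin_apply,
        mulVec_mulVec, h2, smul_mulVec, one_mulVec]
  have hδm : ∀ i v, δ i v ∈ coordsIn m N := fun i v j => by
    by_cases he : Even i
    · simp only [δ, he, if_true, mulVecLin_apply, mulVec, dotProduct]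
      exact m.sum_mem fun b _ => m.mul_mem_right _ (hφ j b)
    · simp only [δ, if_neg he, mulVecLin_apply, mulVec, dotProduct]
      exact m.sum_mem fun b _ => m.mul_mem_right _ (hψ j b)
  -- comparison map
  obtain ⟨e₁, he₁⟩ := L.surj 1
  let f₀ : (Fin N → A) →ₗ[A] (Fin (L.r 0) → A) := (LinearMap.proj i₀).smulRight e₁
  have hε : ∀ v, L.ε (f₀ v) = v i₀ • (1 : A ⧸ J) := fun v => by
    show L.ε (v i₀ • e₁) = _
    rw [map_smul, he₁]
  have hbase : ∀ v, ∃ w, (f₀ ∘ₗ δ 0) v - L.D 0 w ∈ coordsIn I (L.r 0) := fun v => by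
    refine L.exact0 _ ?_
    rw [LinearMap.comp_apply, hε, Algebra.smul_def, mul_one, Ideal.Quotient.algebraMap_eq,
      Ideal.Quotient.eq_zero_iff_mem]
    simp only [δ, Even.zero, if_true, mulVecLin_apply, mulVec, dotProduct]
    exact J.sum_mem fun b _ => J.mul_mem_right _ (hrow b)
  let Good : ∀ i, ((Fin N → A) →ₗ[A] (Fin (L.r i) → A)) →
      ((Fin N → A) →ₗ[A] (Fin (L.r (i + 1)) → A)) → Prop :=
    fun i g g' => ∀ v, g (δ i v) - L.D i (g' v) ∈ coordsIn I (L.r i)
  obtain ⟨f₁, hf₁⟩ := exists_lift (f₀ ∘ₗ δ 0) (L.D 0) hbase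
  have step : ∀ i (g : (Fin N → A) →ₗ[A] (Fin (L.r i) → A))
      (g' : (Fin N → A) →ₗ[A] (Fin (L.r (i + 1)) → A)),
      ∃ g'' : (Fin N → A) →ₗ[A] (Fin (L.r (i + 1 + 1)) → A), Good i g g' → Good (i + 1) g' g'' := by
    intro i g g'
    by_cases hg : Good i g g'
    · obtain ⟨g'', h⟩ := exists_lift (g' ∘ₗ δ (i + 1)) (L.D (i + 1)) fun v => by
        refine L.exact i _ ?_
        have := hg (δ (i + 1) v)
        rw [hδδ, map_smul] at this
        have hxv : x • g v ∈ coordsIn I (L.r i) := fun j => I.mul_mem_right _ hx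
        simpa using sub_mem hxv this
      exact ⟨g'', fun _ => h⟩
    · exact ⟨0, fun h => absurd h hg⟩
  choose nxt hnxt using step
  let pr : ∀ i, {p : ((Fin N → A) →ₗ[A] (Fin (L.r i) → A)) ×
      ((Fin N → A) →ₗ[A] (Fin (L.r (i + 1)) → A)) // Good i p.1 p.2} := fun i =>
    Nat.rec (motive := fun i => {p : ((Fin N → A) →ₗ[A] (Fin (L.r i) → A)) ×
        ((Fin N → A) →ₗ[A] (Fin (L.r (i + 1)) → A)) // Good i p.1 p.2})
      ⟨(f₀, f₁), hf₁⟩ (fun i q => ⟨(q.1.2, nxt i q.1.1 q.1.2), hnxt i _ _ q.2⟩) i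
  let f : ∀ i, (Fin N → A) →ₗ[A] (Fin (L.r i) → A) := fun i => (pr i).1.1
  have hf : ∀ i, Good i (f i) (f (i + 1)) := fun i => (pr i).2
  have hf0 : f 0 = f₀ := rfl
  -- the functional
  let k := A ⧸ m
  let S : Submodule A I := Submodule.comap I.subtype (m * I : Ideal A)
  have : Module.IsTorsionBySet A (↥I ⧸ S) (m : Set A) := by
    rintro z ⟨a, ha⟩
    obtain ⟨z, rfl⟩ := Submodule.Quotient.mk_surjective _ z
    rw [← Submodule.Quotient.mk_smul, Submodule.Quotient.mk_eq_zero]
    exact Ideal.mul_mem_mul ha z.2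
  let _ : Module k (↥I ⧸ S) := this.module
  let _ : Field k := Ideal.Quotient.field m
  have hne : (Submodule.Quotient.mk ⟨x, hx⟩ : ↥I ⧸ S) ≠ 0 := fun h =>
    hxm ((Submodule.Quotient.mk_eq_zero S).1 h)
  obtain ⟨χ₀, hχ₀⟩ := Module.Projective.exists_dual_ne_zero k hne
  let χ : (↥I ⧸ S) →ₗ[k] k := (χ₀ (Submodule.Quotient.mk ⟨x, hx⟩))⁻¹ • χ₀
  have hχ : χ (Submodule.Quotient.mk ⟨x, hx⟩) = 1 := inv_mul_cancel₀ hχ₀
  have hχsmul : ∀ (a : A) (z : ↥I ⧸ S), χ (a • z) = Ideal.Quotient.mk m a * χ z := fun a z => by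
    rw [show a • z = (Ideal.Quotient.mk m a) • z from rfl, map_smul, smul_eq_mul]
  let X : I →+ k := χ.toAddMonoidHom.comp S.mkQ.toAddMonoidHom
  have hX : ∀ (a : A) (z : I), X (a • z) = Ideal.Quotient.mk m a * X z := fun a z => by
    show χ (S.mkQ (a • z)) = _
    rw [map_smul, hχsmul]
    rfl
  have hXm : ∀ z : I, (z : A) ∈ m * I → X z = 0 := fun z hz => by
    show χ (S.mkQ z) = 0
    rw [Submodule.mkQ_apply, (Submodule.Quotient.mk_eq_zero S).2 hz, map_zero]
  -- descending along the periodic complex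
  let e : Fin N → A := Pi.single i₀ 1
  have desc : ∀ j i, L.N < i + 2 * j → Even i →
      ∃ w, f i e - L.D i w ∈ coordsIn m (L.r i) := by
    intro j
    induction j with
    | zero =>
      intro i hi _
      refine ⟨0, fun b => ?_⟩
      have := L.bound i (by omega)
      exact absurd b.2 (by omega)
    | succ j ih =>
      intro i hi he
      obtain ⟨w, hw⟩ := ih (i + 1 + 1) (by omega) he.add_one.add_one
      -- the vector `v` has coordinates in `I`
      let v := L.D (i + 1) (L.D (i + 1 + 1) w)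
      have hv : v ∈ coordsIn I (L.r (i + 1)) := L.sq (i + 1) w
      let h0 := f i (δ i (δ (i + 1) e)) - L.D i (f (i + 1) (δ (i + 1) e))
      have hh0 : h0 ∈ coordsIn I (L.r i) := hf i _
      let h1 := f (i + 1) (δ (i + 1) e) - L.D (i + 1) (f (i + 1 + 1) e)
      have hh1 : h1 ∈ coordsIn I (L.r (i + 1)) := hf (i + 1) e
      let u := v + h1
      have hu : u ∈ coordsIn I (L.r (i + 1)) := add_mem hv hh1
      have heq : x • f i e - L.D i u ∈ coordsIn (m * I) (L.r i) := by
        have key : x • f i e - L.D i u =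
            h0 + L.D i (L.D (i + 1) (f (i + 1 + 1) e - L.D (i + 1 + 1) w)) := by
          simp only [u, v, h0, h1, hδδ, map_smul, map_add, map_sub]
          abel
        rw [key]
        refine add_mem ?_ ?_
        · -- `h0` is linear in the argument `δ e`
          intro b
          have hlin : h0 = ∑ a, (δ (i + 1) e a) •
              (f i (δ i (Pi.single a 1)) - L.D i (f (i + 1) (Pi.single a 1))) := by
            simp only [h0, smul_sub, Finset.sum_sub_distrib, ← map_smul, ← map_sum]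
            rw [← pi_eq_sum_univ' (δ (i + 1) e)]
          rw [hlin, Finset.sum_apply]
          exact Ideal.sum_mem _ fun a _ => Ideal.mul_mem_mul (hδm (i + 1) e a) (hf i _ b)
        · intro b
          rw [pi_eq_sum_univ' (f (i + 1 + 1) e - L.D (i + 1 + 1) w), map_sum, map_sum,
            Finset.sum_apply]
          refine Ideal.sum_mem _ fun a _ => ?_
          rw [map_smul, map_smul, Pi.smul_apply, smul_eq_mul]
          exact Ideal.mul_mem_mul (hw a) (L.sq i _ b)
      choose c hc using fun a => Ideal.Quotient.mk_surjective (I := m) (X ⟨u a, hu a⟩)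
      refine ⟨c, fun b => ?_⟩
      rw [← Ideal.Quotient.eq_zero_iff_mem, Pi.sub_apply, map_sub, sub_eq_zero]
      have hDc : Ideal.Quotient.mk m (L.D i c b) =
          ∑ a, X ⟨u a, hu a⟩ * Ideal.Quotient.mk m (L.D i (Pi.single a 1) b) := by
        rw [pi_eq_sum_univ' c, map_sum, Finset.sum_apply, map_sum]
        refine Finset.sum_congr rfl fun a _ => ?_
        rw [map_smul, Pi.smul_apply, smul_eq_mul, map_mul, hc]
      rw [hDc]
      have hDu : L.D i u b = ∑ a, L.D i (Pi.single a 1) b * u a := by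
        rw [pi_eq_sum_univ' u, map_sum, Finset.sum_apply]
        refine Finset.sum_congr rfl fun a _ => ?_
        rw [map_smul, Pi.smul_apply, smul_eq_mul, mul_comm]
        simp [Pi.single_apply]
      let z : I := f i e b • (⟨x, hx⟩ : I) - ∑ a, L.D i (Pi.single a 1) b • (⟨u a, hu a⟩ : I)
      have hz : (z : A) ∈ m * I := by
        have := heq b
        rw [Pi.sub_apply, Pi.smul_apply, hDu, smul_eq_mul, mul_comm x] at this
        simpa [z] using this
      have := hXm z hz
      simp only [z, map_sub, map_sum, hX] at this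
      rw [show X ⟨x, hx⟩ = 1 from hχ, mul_one, sub_eq_zero] at this
      rw [this]
      exact Finset.sum_congr rfl fun a _ => mul_comm _ _
  obtain ⟨w, hw⟩ := desc (L.N + 1) 0 (by omega) Even.zero
  rw [hf0] at hw
  -- contradiction after augmenting
  have h3 : L.ε (f₀ e - L.D 0 w) = 1 := by
    rw [map_sub, L.aug, sub_zero, hε]
    simp [e]
  have h4 : L.ε (f₀ e - L.D 0 w) ∈ m.map (Ideal.Quotient.mk J) := by
    rw [pi_eq_sum_univ' (f₀ e - L.D 0 w), map_sum]
    refine Ideal.sum_mem _ fun a _ => ?_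
    rw [map_smul, Algebra.smul_def, Ideal.Quotient.algebraMap_eq]
    exact Ideal.mul_mem_right _ _ (Ideal.mem_map_of_mem _ (hw a))
  rw [h3, Ideal.mem_map_iff_of_surjective _ Ideal.Quotient.mk_surjective] at h4
  obtain ⟨a, ha, ha1⟩ := h4
  rw [← map_one (Ideal.Quotient.mk J), Ideal.Quotient.eq] at ha1
  have := sub_mem ha (hJ ha1)
  rw [sub_sub_cancel] at this
  exact (maximalIdeal.isMaximal A).ne_top ((Ideal.eq_top_iff_one _).2 this)

theorem mem_mul_of_finiteTorDim [IsNoetherianRing A] [IsLocalRing A] (I J : Ideal A) (hIJ : I ≤ J)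
    (hJ : J ≠ ⊤) [Algebra (A ⧸ I) (A ⧸ J)] [IsScalarTower A (A ⧸ I) (A ⧸ J)]
    (hfd : DRing.HasFiniteTorDim (A ⧸ I) (A ⧸ J)) {x : A} (hx : x ∈ I)
    (hxm : x ∈ maximalIdeal A * J) : x ∈ maximalIdeal A * I := by
  obtain ⟨L⟩ := exists_liftedRes I J hIJ hJ hfd
  exact not_mem_of_mf (hIJ.trans (le_maximalIdeal hJ)) (le_maximalIdeal hJ) L hx
    (hasMF_of_mem (le_maximalIdeal hJ) hxm)

end Groth.Agent.TorDimLCI19
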