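import Groth.Agent.TorDimLCI19.Injective
import Groth.Agent.CAlg9.RegSeq.Minimal

/-! `I` and `J/I` are regular when `J` is and `A/J` has finite Tor dimension over `A/I`. -/

set_option autoImplicit false
universe u

open IsLocalRing RingTheory.Sequence

namespace Groth.Agent.TorDimLCI19

open CAlg9.RegSeq

theorem regular_pair {A : Type u} [CommRing A] [IsNoetherianRing A] [IsLocalRing A]
    (I J : Ideal A) (hIJ : I ≤ J) (hJ : J ≠ ⊤)
    (hmem : ∀ x ∈ I, x ∈ maximalIdeal A * J → x ∈ maximalIdeal A * I)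
    (hJreg : CInt.IsRegularIdeal J) :
    CInt.IsRegularIdeal I ∧ CInt.IsRegularIdeal (J.map (Ideal.Quotient.mk I)) := by
  classical
  have hJm : J ≤ maximalIdeal A := le_maximalIdeal hJ
  obtain ⟨q, g, hg⟩ : ∃ (q : ℕ) (g : Fin q → A), Ideal.span (Set.range g) = I ∧ q = I.spanFinrank := by
    obtain ⟨s, hs, hspan⟩ := (IsNoetherian.noetherian I).exists_span_set_encard_eq_spanFinrank
    have hfin : s.Finite := Set.finite_of_encard_eq_coe hs
    refine ⟨hfin.toFinset.card, fun i => (hfin.toFinset.equivFin.symm i).1, ?_, ?_⟩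
    · rw [← hspan]
      show Ideal.span _ = Ideal.span s
      congr 1
      ext x
      exact ⟨fun ⟨i, hi⟩ => hi ▸ hfin.mem_toFinset.1 (hfin.toFinset.equivFin.symm i).2,
        fun hx => ⟨hfin.toFinset.equivFin ⟨x, hfin.mem_toFinset.2 hx⟩, by simp⟩⟩
    · have := hfin.encard_eq_coe_toFinset_card
      rw [hs] at this
      exact_mod_cast this.symm
  have hgI : ∀ i, g i ∈ I := fun i => hg.1 ▸ Ideal.subset_span ⟨i, rfl⟩
  have hind : ∀ c : Fin q → A, ∑ i, c i * g i ∈ maximalIdeal A * J → ∀ i, c i ∈ maximalIdeal A :=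
    fun c hc i => coeff_mem_of_minimal g hg.1 hg.2.le c
      (hmem _ (sum_mem fun l _ => I.mul_mem_left _ (hgI l)) hc) i
  obtain ⟨r, h, hh, hspan, hrq⟩ :=
    extend_minimal J J le_rfl g (fun i => hIJ (hgI i)) le_sup_left hind
  have hswap : Ideal.span (Set.range (Fin.append g h)) = J := by
    refine le_antisymm ?_ (hspan.ge.trans ?_)
    · rw [Ideal.span_le]
      rintro _ ⟨i, rfl⟩
      induction i using Fin.addCases with
      | left i => rw [Fin.append_left]; exact hIJ (hgI i)
      | right i => rw [Fin.append_right]; exact hh i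
    · refine Ideal.span_mono (Set.range_subset_iff.2 fun i => ?_)
      induction i using Fin.addCases with
      | left i => exact ⟨Fin.natAdd _ i, by rw [Fin.append_left, Fin.append_right]⟩
      | right i => exact ⟨Fin.castAdd _ i, by rw [Fin.append_left, Fin.append_right]⟩
  obtain ⟨h1, h2⟩ := regular_append_right g h (isRegular_of_minimal hJreg _ hswap (by omega))
  rw [hg.1] at h2
  refine ⟨⟨List.ofFn g, ⟨h1, ?_⟩, by rw [ofList_ofFn, hg.1]⟩,
    ⟨(List.ofFn h).map (Ideal.Quotient.mk I), ⟨h2, ?_⟩, ?_⟩⟩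
  · rw [ofList_ofFn, hg.1, Ideal.smul_eq_mul, Ideal.mul_top]
    exact fun e => hJ (top_le_iff.1 (e.le.trans hIJ))
  · intro e
    rw [Ideal.smul_eq_mul, Ideal.mul_top, ← Ideal.map_ofList] at e
    have h3 := Ideal.map_mono (f := Ideal.Quotient.mk I)
      (show Ideal.ofList (List.ofFn h) ≤ J by rw [ofList_ofFn, Ideal.span_le]; exact Set.range_subset_iff.2 hh)
    rw [← e, top_le_iff] at h3
    have h4 := congrArg (Ideal.comap (Ideal.Quotient.mk I)) h3
    rw [Ideal.comap_map_of_surjective _ Ideal.Quotient.mk_surjective, ← RingHom.ker_eq_comap_bot,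
      Ideal.mk_ker, sup_eq_left.2 hIJ, Ideal.comap_top] at h4
    exact hJ h4
  · rw [← Ideal.map_ofList, ofList_ofFn]
    refine le_antisymm (Ideal.map_mono (Ideal.span_le.2 (Set.range_subset_iff.2 hh))) ?_
    rw [← hswap, Ideal.map_le_iff_le_comap, Ideal.span_le]
    rintro _ ⟨i, rfl⟩
    induction i using Fin.addCases with
    | left i =>
      rw [Fin.append_left, SetLike.mem_coe, Ideal.mem_comap,
        Ideal.Quotient.eq_zero_iff_mem.2 (hgI i)]
      exact zero_mem _
    | right i => rw [Fin.append_right]; exact Ideal.mem_map_of_mem _ (Ideal.subset_span ⟨i, rfl⟩)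

end Groth.Agent.TorDimLCI19
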