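import Groth.Agent.TorDimLCI19.Equiv
import Groth.Agent.CAlg9.Node.Fibral

/-! The three equivalent conditions for a flat local map with regular closed fibre. -/

set_option autoImplicit false
set_option linter.unusedSectionVars false
universe u

open IsLocalRing RingTheory.Sequence

namespace Groth.Agent.TorDimLCI19

variable {R S : Type u} [CommRing R] [CommRing S] [IsNoetherianRing R] [IsNoetherianRing S]
  [IsLocalRing R] [IsLocalRing S] [Algebra R S] [IsLocalHom (algebraMap R S)] [Module.Flat R S]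
  (I : Ideal R) (J : Ideal S)

theorem tower_quotient (hIJ : I.map (algebraMap R S) ≤ J) [Algebra (R ⧸ I) (S ⧸ J)]
    [IsScalarTower R (R ⧸ I) (S ⧸ J)] (a : R) :
    algebraMap (R ⧸ I) (S ⧸ J) (Ideal.Quotient.mk I a) = Ideal.Quotient.mk J (algebraMap R S a) :=
  (IsScalarTower.algebraMap_apply R (R ⧸ I) (S ⧸ J) a).symm

theorem regular_and_finiteTorDim (hI : I ≠ ⊤) (hJ : J ≠ ⊤) (hIJ : I.map (algebraMap R S) ≤ J)
    [Algebra (R ⧸ I) (S ⧸ J)] [IsScalarTower R (R ⧸ I) (S ⧸ J)]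
    (hIreg : CInt.IsRegularIdeal I)
    (hJreg : CInt.IsRegularIdeal (J.map (Ideal.Quotient.mk (I.map (algebraMap R S))))) :
    CInt.IsRegularIdeal J ∧ DRing.HasFiniteTorDim (R ⧸ I) (S ⧸ J) := by
  refine ⟨CAlg9.RegSeq.regular_of_quotient _ J hIJ (le_maximalIdeal hJ) (isRegularIdeal_map hI hIreg)
    hJreg, ?_⟩
  obtain ⟨ys, hys, hyJ⟩ := hJreg
  let IS := I.map (algebraMap R S)
  have hflat : Module.Flat (R ⧸ I) (S ⧸ IS) :=
    RingHom.flat_algebraMap_iff.1 (CAlg9.Node.flat_quotientMap' I)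
  let _ : Algebra (S ⧸ IS) (S ⧸ J) := (Ideal.Quotient.factor hIJ).toAlgebra
  have : IsScalarTower (R ⧸ I) (S ⧸ IS) (S ⧸ J) := IsScalarTower.of_algebraMap_eq fun x => by
    obtain ⟨a, rfl⟩ := Ideal.Quotient.mk_surjective x
    rw [tower_quotient I J hIJ]
    rfl
  refine hasFiniteTorDim_of_regular (A' := R ⧸ I) (S' := S ⧸ IS) (S ⧸ J) ys hys.toIsWeaklyRegular
    (Algebra.linearMap (S ⧸ IS) (S ⧸ J)) (Ideal.Quotient.factor_surjective hIJ) ?_
  rw [hyJ]
  ext z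
  obtain ⟨s, rfl⟩ := Ideal.Quotient.mk_surjective z
  show Ideal.Quotient.mk J s = 0 ↔ _
  rw [Ideal.Quotient.eq_zero_iff_mem]
  refine ⟨fun h => Ideal.mem_map_of_mem _ h, fun h => ?_⟩
  rw [← Ideal.mem_comap, Ideal.comap_map_of_surjective _ Ideal.Quotient.mk_surjective,
    ← RingHom.ker_eq_comap_bot, Ideal.mk_ker, sup_eq_left.2 hIJ] at h
  exact h

theorem regular_of_finite_tor
    [IsRegularLocalRing (S ⧸ (maximalIdeal R).map (algebraMap R S))]
    (hI : I ≠ ⊤) (hJ : J ≠ ⊤) (hIJ : I.map (algebraMap R S) ≤ J)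
    [Algebra (R ⧸ I) (S ⧸ J)] [IsScalarTower R (R ⧸ I) (S ⧸ J)] (hJreg : CInt.IsRegularIdeal J)
    (hfin : {p : ℕ | ¬Subsingleton (DRing.Tor (R ⧸ I) p (S ⧸ J)
      ((R ⧸ I) ⧸ (maximalIdeal R).map (Ideal.Quotient.mk I)))}.Finite) :
    CInt.IsRegularIdeal I ∧
      CInt.IsRegularIdeal (J.map (Ideal.Quotient.mk (I.map (algebraMap R S)))) := by
  let IS := I.map (algebraMap R S)
  have hISne : IS ≠ ⊤ := fun h => hJ (top_le_iff.1 (h ▸ hIJ))
  have hflat : Module.Flat (R ⧸ I) (S ⧸ IS) :=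
    RingHom.flat_algebraMap_iff.1 (CAlg9.Node.flat_quotientMap' I)
  let iAlg : Algebra (S ⧸ IS) (S ⧸ J) := (Ideal.Quotient.factor hIJ).toAlgebra
  have : IsScalarTower (R ⧸ I) (S ⧸ IS) (S ⧸ J) := IsScalarTower.of_algebraMap_eq fun x => by
    obtain ⟨a, rfl⟩ := Ideal.Quotient.mk_surjective x
    rw [tower_quotient I J hIJ]
    rfl
  have : IsScalarTower S (S ⧸ IS) (S ⧸ J) := IsScalarTower.of_algebraMap_eq fun x => rfl
  have : Nontrivial (S ⧸ IS) := Ideal.Quotient.nontrivial_iff.2 hISne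
  have : IsLocalRing (S ⧸ IS) := IsLocalRing.of_surjective' _ Ideal.Quotient.mk_surjective
  have : Module.Finite (S ⧸ IS) (S ⧸ J) :=
    Module.Finite.of_surjective (Algebra.linearMap (S ⧸ IS) (S ⧸ J))
      (Ideal.Quotient.factor_surjective hIJ)
  have hmap : ((maximalIdeal R).map (Ideal.Quotient.mk I)).map
      (algebraMap (R ⧸ I) (S ⧸ IS)) =
      ((maximalIdeal R).map (algebraMap R S)).map (Ideal.Quotient.mk IS) := by
    rw [Ideal.map_map, Ideal.map_map]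
    rfl
  have hF : IsRegularLocalRing ((S ⧸ IS) ⧸ ((maximalIdeal R).map (Ideal.Quotient.mk I)).map
      (algebraMap (R ⧸ I) (S ⧸ IS))) :=
    IsRegularLocalRing.of_ringEquiv
      ((DoubleQuot.quotQuotEquivQuotOfLE (Ideal.map_mono (le_maximalIdeal hI))).symm.trans
        (Ideal.quotEquivOfEq hmap.symm))
  have hfd := hasFiniteTorDim_top (A' := R ⧸ I) (S' := S ⧸ IS) (S ⧸ J)
    ((maximalIdeal R).map (Ideal.Quotient.mk I)) hF hfin
  obtain ⟨h1, h2⟩ := regular_pair IS J hIJ hJ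
    (fun x hx hxm => mem_mul_of_finiteTorDim IS J hIJ hJ hfd hx hxm) hJreg
  exact ⟨isRegularIdeal_of_map hI h1, h2⟩

theorem finite_tor_of_finiteTorDim {A : Type u} [CommRing A] (M N : Type u) [AddCommGroup M]
    [Module A M] [AddCommGroup N] [Module A N] (h : DRing.HasFiniteTorDim A M) :
    {p : ℕ | ¬Subsingleton (DRing.Tor A p M N)}.Finite := by
  obtain ⟨n, hn⟩ := h
  exact (Set.finite_Iic n).subset fun p hp => le_of_not_gt fun hlt => hp (hn N p hlt)

end Groth.Agent.TorDimLCI19
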