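import Groth.Agent.TorDimLCI19.Equiv
import Groth.Agent.CAlg9.CIT.Completion

/-! Quotients of complete intersections by regular ideals. -/

set_option autoImplicit false
universe u

open IsLocalRing RingTheory.Sequence

namespace Groth.Agent.TorDimLCI19

theorem isRegularIdeal_map_ringEquiv {A B : Type u} [CommRing A] [CommRing B] (e : A ≃+* B) {I : Ideal A}
    (h : CInt.IsRegularIdeal I) : CInt.IsRegularIdeal (I.map (e : A →+* B)) := by
  obtain ⟨rs, hrs, rfl⟩ := h
  refine ⟨rs.map e, ?_, (Ideal.map_ofList (e : A →+* B) rs).symm⟩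
  exact (AddEquiv.isRegular_congr (e := e.toAddEquiv)
    (List.forall₂_map_right_iff.mpr <| List.forall₂_same.mpr fun r _ x => map_mul e r x)).1 hrs

theorem isCompleteIntersection_quotient {A B : Type u} [CommRing A] [CommRing B] [IsNoetherianRing A]
    [IsLocalRing A] [IsLocalRing B] (f : A →+* B) (hf : Function.Surjective f)
    (hA : Pi1.IsCompleteIntersection A) (hker : CInt.IsRegularIdeal (RingHom.ker f)) :
    Pi1.IsCompleteIntersection B := by
  obtain ⟨P, _, _, xs, hxm, hxs, ⟨ψ⟩⟩ := hA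
  let iAlg : Algebra A B := f.toAlgebra
  let J : Ideal P := Ideal.ofList xs
  let Ah := AdicCompletion (maximalIdeal A) A
  let Kc : Ideal Ah := (RingHom.ker f).map (algebraMap A Ah)
  have hflat : Module.Flat A Ah := AdicCompletion.flat_of_isNoetherian _
  have hKne : Kc ≠ ⊤ := by
    refine ne_top_of_le_ne_top (maximalIdeal.isMaximal Ah).ne_top ?_
    exact (Ideal.map_mono (le_maximalIdeal (RingHom.ker_ne_top f))).trans
      (map_maximalIdeal_le (algebraMap A Ah))
  have hKc : CInt.IsRegularIdeal Kc := by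
    obtain ⟨rs, hrs, hrsk⟩ := hker
    refine ⟨rs.map (algebraMap A Ah), ⟨hrs.toIsWeaklyRegular.of_flat, ?_⟩, ?_⟩
    · rw [Ideal.smul_eq_mul, Ideal.mul_top, ← Ideal.map_ofList, hrsk]
      exact hKne.symm
    · rw [← Ideal.map_ofList, hrsk]
  let K' : Ideal (P ⧸ J) := Kc.map (ψ : Ah →+* P ⧸ J)
  let K : Ideal P := K'.comap (Ideal.Quotient.mk J)
  have hmap : K.map (Ideal.Quotient.mk J) = K' :=
    Ideal.map_comap_of_surjective _ Ideal.Quotient.mk_surjective K'
  have hJK : J ≤ K := fun x hx => by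
    show Ideal.Quotient.mk J x ∈ K'
    rw [Ideal.Quotient.eq_zero_iff_mem.2 hx]
    exact zero_mem _
  have hKm : K ≤ maximalIdeal P := by
    refine le_maximalIdeal fun h => hKne ?_
    have h1 : K' = ⊤ := by rw [← hmap, h, Ideal.map_top]
    have h2 : K'.map (ψ.symm : P ⧸ J →+* Ah) = Kc := Ideal.map_of_equiv ψ
    rw [← h2, h1, Ideal.map_top]
  have hK : CInt.IsRegularIdeal K :=
    CAlg9.RegSeq.regular_of_quotient J K hJK hKm ⟨xs, hxs, rfl⟩
      (by rw [hmap]; exact isRegularIdeal_map_ringEquiv ψ hKc)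
  obtain ⟨ys, hys, hysK⟩ := hK
  refine ⟨P, inferInstance, inferInstance, ys, fun r hr => hKm (hysK ▸ Ideal.subset_span hr), hys, ⟨?_⟩⟩
  refine (EGA4H10.cplQuotEquiv A B hf).symm.trans ((Ideal.quotientEquiv Kc K' ψ rfl).trans
    ((Ideal.quotEquivOfEq hmap.symm).trans ((DoubleQuot.quotQuotEquivQuotOfLE hJK).trans
      (Ideal.quotEquivOfEq (hysK.symm)))))

end Groth.Agent.TorDimLCI19
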