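import Groth.Agent.TorDimLCI19.Main
import Groth.Agent.TorDimLCI19.CIQuot
import Groth.Agent.CAlg9.CIT.FlatCI
import Groth.Agent.CAlg1.CohenHom

/-! Complete intersection homomorphisms between complete local rings (Avramov). -/

set_option autoImplicit false
set_option linter.unusedSectionVars false
universe u

open CategoryTheory CategoryTheory.Limits IsLocalRing RingTheory.Sequence TensorProduct

namespace Groth.Agent.TorDimLCI19

/-- finiteness of Tor against the residue field transported along an isomorphism of base rings -/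
theorem finite_tor_of_bijective {A₀ A : Type u} [CommRing A₀] [CommRing A] [IsLocalRing A] [Algebra A₀ A]
    (hbij : Function.Bijective (algebraMap A₀ A)) (N₀ : Ideal A₀)
    (hN : N₀.map (algebraMap A₀ A) = maximalIdeal A)
    {M M' : Type u} [AddCommGroup M] [Module A M] [AddCommGroup M'] [Module A M'] [Module A₀ M']
    [IsScalarTower A₀ A M'] (e : M ≃ₗ[A] M')
    (h : {p : ℕ | ¬Subsingleton (DRing.Tor A p M (ResidueField A))}.Finite) :
    {p : ℕ | ¬Subsingleton (DRing.Tor A₀ p M' (A₀ ⧸ N₀))}.Finite := by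
  have : Module.Flat A₀ A := RingHom.flat_algebraMap_iff.1 (RingHom.Flat.of_bijective hbij)
  refine h.subset fun p hp hs => hp ?_
  rw [tor_base_iff (A := A₀) (R := A)]
  have h1 := isZero_tor_congr_left e _ p (ModuleCat.isZero_of_subsingleton
    ((((Tor (ModuleCat.{u} A) p).obj (ModuleCat.of A M)).obj (ModuleCat.of A (ResidueField A)))))
  let ek : ResidueField A ≃ₗ[A] (A ⊗[A₀] (A₀ ⧸ N₀)) :=
    (Submodule.quotEquivOfEq (maximalIdeal A) (N₀.map (algebraMap A₀ A)) hN.symm).trans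
      (Algebra.TensorProduct.quotIdealMapEquivTensorQuot A N₀).toLinearEquiv
  exact ModuleCat.isZero_iff_subsingleton.1
    (isZero_tor_symm p (isZero_tor_congr_left ek _ p (isZero_tor_symm p h1)))

variable {A B : Type u} [CommRing A] [CommRing B] [IsNoetherianRing A] [IsNoetherianRing B]
  [IsLocalRing A] [IsLocalRing B] [Algebra A B] [IsLocalHom (algebraMap A B)]

theorem ci_and_finite_tor_of_factorization (hA : Pi1.IsCompleteIntersection A) {S : Type u} [CommRing S]
    [IsNoetherianRing S] [IsLocalRing S] [Algebra A S] [Module.Flat A S]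
    [hF : IsRegularLocalRing (S ⧸ Ideal.map (algebraMap A S) (maximalIdeal A))]
    (g : S →ₐ[A] B) (hg : Function.Surjective g) (rs : List S)
    (hrs : Ideal.ofList rs = RingHom.ker g) (hreg : IsRegular S rs) :
    Pi1.IsCompleteIntersection B ∧
      Set.Finite {p : ℕ | ¬Subsingleton (DRing.Tor A p B (ResidueField A))} := by
  have : IsLocalHom (algebraMap A S) := ⟨fun a ha => isUnit_of_map_unit (algebraMap A B) a (by
    rw [← AlgHom.commutes g a]; exact ha.map g)⟩
  have hS : Pi1.IsCompleteIntersection S :=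
    CAlg9.CIT.ci_of_flat' _ rfl hA (CAlg9.CIT.isCompleteIntersection_of_isRegularLocalRing _)
  refine ⟨isCompleteIntersection_quotient g.toRingHom hg hS ⟨rs, hreg, hrs⟩, ?_⟩
  let iAlg : Algebra S B := g.toRingHom.toAlgebra
  have : IsScalarTower A S B := IsScalarTower.of_algebraMap_eq fun a => (AlgHom.commutes g a).symm
  exact finite_tor_of_finiteTorDim _ _ (hasFiniteTorDim_of_regular (A' := A) (S' := S) B rs
    hreg.toIsWeaklyRegular (Algebra.linearMap S B) hg (by rw [hrs]; rfl))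

theorem factorization_of_presentation {R S₀ : Type u} [CommRing R] [CommRing S₀] [IsRegularLocalRing R]
    [IsRegularLocalRing S₀] (ρ : R →+* A) (σ : S₀ →+* B) (τ : R →+* S₀)
    (hρ : Function.Surjective ρ) (hσ : Function.Surjective σ)
    (hcomm : σ.comp τ = (algebraMap A B).comp ρ) (hflat : τ.Flat)
    (hF : IsRegularRing (S₀ ⧸ (maximalIdeal R).map τ))
    (hB : Pi1.IsCompleteIntersection B)
    (hfin : Set.Finite {p : ℕ | ¬Subsingleton (DRing.Tor A p B (ResidueField A))}) :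
    Pi1.IsCompleteIntersection A ∧
      ∃ (S : Type u) (_ : CommRing S) (_ : IsNoetherianRing S) (_ : IsLocalRing S) (_ : Algebra A S)
        (_ : Module.Flat A S)
        (_ : IsRegularLocalRing (S ⧸ Ideal.map (algebraMap A S) (IsLocalRing.maximalIdeal A)))
        (g : S →ₐ[A] B), Function.Surjective g ∧
          ∃ rs : List S, Ideal.ofList rs = RingHom.ker g ∧ RingTheory.Sequence.IsRegular S rs := by
  have hc : ∀ r, σ (τ r) = algebraMap A B (ρ r) := fun r => RingHom.congr_fun hcomm r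
  let iRS : Algebra R S₀ := τ.toAlgebra
  have : Module.Flat R S₀ := hflat
  have : IsLocalHom ρ := IsLocalHom.of_surjective ρ hρ
  have hτl : IsLocalHom (algebraMap R S₀) := ⟨fun r hr => isUnit_of_map_unit ρ r
    (isUnit_of_map_unit (algebraMap A B) _ (hc r ▸ hr.map σ))⟩
  let MS := (maximalIdeal R).map (algebraMap R S₀)
  have hMS : MS ≤ maximalIdeal S₀ := map_maximalIdeal_le _
  have : Nontrivial (S₀ ⧸ MS) := Ideal.Quotient.nontrivial_iff.2
    (ne_top_of_le_ne_top (maximalIdeal.isMaximal S₀).ne_top hMS)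
  have : IsLocalRing (S₀ ⧸ MS) := IsLocalRing.of_surjective' _ Ideal.Quotient.mk_surjective
  have : IsRegularRing (S₀ ⧸ MS) := hF
  have hFib : IsRegularLocalRing (S₀ ⧸ MS) := IsRegularLocalRing.of_isRegularRing_of_isLocalRing _
  let I₀ := RingHom.ker ρ
  let J₀ := RingHom.ker σ
  have hI : I₀ ≠ ⊤ := RingHom.ker_ne_top ρ
  have hJ : J₀ ≠ ⊤ := RingHom.ker_ne_top σ
  have hIJ : I₀.map (algebraMap R S₀) ≤ J₀ := Ideal.map_le_iff_le_comap.2 fun r hr => by
    show σ (τ r) = 0
    rw [hc, show ρ r = 0 from hr, map_zero]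
  let iA₀B₀ : Algebra (R ⧸ I₀) (S₀ ⧸ J₀) :=
    (Ideal.quotientMap J₀ τ (Ideal.map_le_iff_le_comap.1 hIJ)).toAlgebra
  have : IsScalarTower R (R ⧸ I₀) (S₀ ⧸ J₀) := IsScalarTower.of_algebraMap_eq fun r => rfl
  let eA : (R ⧸ I₀) ≃+* A := RingHom.quotientKerEquivOfSurjective hρ
  let eB : (S₀ ⧸ J₀) ≃+* B := RingHom.quotientKerEquivOfSurjective hσ
  let iA₀A : Algebra (R ⧸ I₀) A := eA.toRingHom.toAlgebra
  let iAB₀ : Algebra A (S₀ ⧸ J₀) := (eB.symm.toRingHom.comp (algebraMap A B)).toAlgebra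
  have : IsScalarTower (R ⧸ I₀) A (S₀ ⧸ J₀) := IsScalarTower.of_algebraMap_eq fun x => by
    obtain ⟨r, rfl⟩ := Ideal.Quotient.mk_surjective x
    show Ideal.Quotient.mk J₀ (τ r) = eB.symm (algebraMap A B (eA (Ideal.Quotient.mk I₀ r)))
    apply eB.injective
    rw [RingEquiv.apply_symm_apply]
    exact hc r
  let e : B ≃ₗ[A] (S₀ ⧸ J₀) :=
    (AlgEquiv.ofRingEquiv (f := eB) fun a => eB.apply_symm_apply (algebraMap A B a)).toLinearEquiv.symm
  have hmax : ((maximalIdeal R).map (Ideal.Quotient.mk I₀)).map (algebraMap (R ⧸ I₀) A) = maximalIdeal A := by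
    rw [Ideal.map_map, show (algebraMap (R ⧸ I₀) A).comp (Ideal.Quotient.mk I₀) = ρ from RingHom.ext fun r => rfl]
    conv_lhs => rw [← CAlg1.comap_maximalIdeal_of_surjective ρ hρ]
    exact Ideal.map_comap_of_surjective _ hρ _
  have hfin₀ := finite_tor_of_bijective (A₀ := R ⧸ I₀) eA.bijective
    ((maximalIdeal R).map (Ideal.Quotient.mk I₀)) hmax e hfin
  obtain ⟨hIreg, hJreg⟩ := regular_of_finite_tor I₀ J₀ hI hJ hIJ
    ((CAlg9.CIT.isCompleteIntersection_iff_isRegularIdeal σ hσ).1 hB) hfin₀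
  refine ⟨(CAlg9.CIT.isCompleteIntersection_iff_isRegularIdeal ρ hρ).2 hIreg, ?_⟩
  let IS := I₀.map (algebraMap R S₀)
  have hISm : IS ≤ MS := Ideal.map_mono (le_maximalIdeal hI)
  have : Nontrivial (S₀ ⧸ IS) := Ideal.Quotient.nontrivial_iff.2
    (ne_top_of_le_ne_top hJ hIJ)
  have : IsLocalRing (S₀ ⧸ IS) := IsLocalRing.of_surjective' _ Ideal.Quotient.mk_surjective
  let φ : A →+* S₀ ⧸ IS := (algebraMap (R ⧸ I₀) (S₀ ⧸ IS)).comp eA.symm.toRingHom
  have hφ : φ.Flat := RingHom.Flat.comp (RingHom.Flat.of_bijective eA.symm.bijective)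
    (CAlg9.Node.flat_quotientMap' I₀)
  let iAS : Algebra A (S₀ ⧸ IS) := φ.toAlgebra
  have hφρ : φ.comp ρ = (Ideal.Quotient.mk IS).comp τ := RingHom.ext fun r => by
    show algebraMap (R ⧸ I₀) (S₀ ⧸ IS) (eA.symm (ρ r)) = _
    rw [show eA.symm (ρ r) = Ideal.Quotient.mk I₀ r from eA.symm_apply_eq.2 rfl]
    rfl
  have hfib : (maximalIdeal A).map (algebraMap A (S₀ ⧸ IS)) = MS.map (Ideal.Quotient.mk IS) := by
    rw [← hmax, Ideal.map_map, Ideal.map_map, Ideal.map_map, RingHom.comp_assoc,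
      show (algebraMap (R ⧸ I₀) A).comp (Ideal.Quotient.mk I₀) = ρ from RingHom.ext fun r => rfl]
    exact congrArg (fun f => Ideal.map f (maximalIdeal R)) hφρ
  let g : (S₀ ⧸ IS) →ₐ[A] B :=
    { Ideal.Quotient.lift IS σ fun s hs => hIJ hs with
      commutes' := fun a => by
        obtain ⟨r, rfl⟩ := hρ a
        show Ideal.Quotient.lift IS σ _ (φ.comp ρ r) = _
        rw [hφρ]
        exact hc r }
  refine ⟨S₀ ⧸ IS, inferInstance, inferInstance, inferInstance, iAS, hφ,
    IsRegularLocalRing.of_ringEquiv ((DoubleQuot.quotQuotEquivQuotOfLE hISm).symm.trans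
      (Ideal.quotEquivOfEq hfib.symm)), g,
    Ideal.Quotient.lift_surjective_of_surjective IS _ hσ, ?_⟩
  obtain ⟨rs, hrs, hrsJ⟩ := hJreg
  refine ⟨rs, hrsJ.trans ?_, hrs⟩
  exact (Ideal.ker_quotient_lift σ _).symm

theorem cover_of_presentation {R S₀ : Type u} [CommRing R] [CommRing S₀] [IsRegularLocalRing R]
    [IsRegularLocalRing S₀] (ρ : R →+* A) (σ : S₀ →+* B) (τ : R →+* S₀)
    (hρ : Function.Surjective ρ) (hσ : Function.Surjective σ)
    (hcomm : σ.comp τ = (algebraMap A B).comp ρ) (hflat : τ.Flat)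
    (hF : IsRegularRing (S₀ ⧸ (maximalIdeal R).map τ)) :
    ∃ (T : Type u) (_ : CommRing T) (_ : IsNoetherianRing T) (_ : IsLocalRing T) (_ : Algebra A T)
      (_ : Module.Flat A T) (_ : IsRegularLocalRing (T ⧸ (maximalIdeal A).map (algebraMap A T)))
      (_ : IsLocalHom (algebraMap A T)) (π : T →ₐ[A] B), Function.Surjective π := by
  have hc : ∀ r, σ (τ r) = algebraMap A B (ρ r) := fun r => RingHom.congr_fun hcomm r
  let iRS : Algebra R S₀ := τ.toAlgebra
  have : Module.Flat R S₀ := hflat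
  have : IsLocalHom ρ := IsLocalHom.of_surjective ρ hρ
  have hτl : IsLocalHom (algebraMap R S₀) := ⟨fun r hr => isUnit_of_map_unit ρ r
    (isUnit_of_map_unit (algebraMap A B) _ (hc r ▸ hr.map σ))⟩
  let MS := (maximalIdeal R).map (algebraMap R S₀)
  have hMS : MS ≤ maximalIdeal S₀ := map_maximalIdeal_le _
  have : Nontrivial (S₀ ⧸ MS) := Ideal.Quotient.nontrivial_iff.2
    (ne_top_of_le_ne_top (maximalIdeal.isMaximal S₀).ne_top hMS)
  have : IsLocalRing (S₀ ⧸ MS) := IsLocalRing.of_surjective' _ Ideal.Quotient.mk_surjective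
  have : IsRegularRing (S₀ ⧸ MS) := hF
  have hFib : IsRegularLocalRing (S₀ ⧸ MS) := IsRegularLocalRing.of_isRegularRing_of_isLocalRing _
  let I₀ := RingHom.ker ρ
  let J₀ := RingHom.ker σ
  have hI : I₀ ≠ ⊤ := RingHom.ker_ne_top ρ
  have hJ : J₀ ≠ ⊤ := RingHom.ker_ne_top σ
  have hIJ : I₀.map (algebraMap R S₀) ≤ J₀ := Ideal.map_le_iff_le_comap.2 fun r hr => by
    show σ (τ r) = 0
    rw [hc, show ρ r = 0 from hr, map_zero]
  let iA₀B₀ : Algebra (R ⧸ I₀) (S₀ ⧸ J₀) :=
    (Ideal.quotientMap J₀ τ (Ideal.map_le_iff_le_comap.1 hIJ)).toAlgebra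
  have : IsScalarTower R (R ⧸ I₀) (S₀ ⧸ J₀) := IsScalarTower.of_algebraMap_eq fun r => rfl
  let eA : (R ⧸ I₀) ≃+* A := RingHom.quotientKerEquivOfSurjective hρ
  let eB : (S₀ ⧸ J₀) ≃+* B := RingHom.quotientKerEquivOfSurjective hσ
  let iA₀A : Algebra (R ⧸ I₀) A := eA.toRingHom.toAlgebra
  have hmax : ((maximalIdeal R).map (Ideal.Quotient.mk I₀)).map (algebraMap (R ⧸ I₀) A) = maximalIdeal A := by
    rw [Ideal.map_map, show (algebraMap (R ⧸ I₀) A).comp (Ideal.Quotient.mk I₀) = ρ from RingHom.ext fun r => rfl]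
    conv_lhs => rw [← CAlg1.comap_maximalIdeal_of_surjective ρ hρ]
    exact Ideal.map_comap_of_surjective _ hρ _
  let IS := I₀.map (algebraMap R S₀)
  have hISm : IS ≤ MS := Ideal.map_mono (le_maximalIdeal hI)
  have : Nontrivial (S₀ ⧸ IS) := Ideal.Quotient.nontrivial_iff.2
    (ne_top_of_le_ne_top hJ hIJ)
  have : IsLocalRing (S₀ ⧸ IS) := IsLocalRing.of_surjective' _ Ideal.Quotient.mk_surjective
  let φ : A →+* S₀ ⧸ IS := (algebraMap (R ⧸ I₀) (S₀ ⧸ IS)).comp eA.symm.toRingHom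
  have hφ : φ.Flat := RingHom.Flat.comp (RingHom.Flat.of_bijective eA.symm.bijective)
    (CAlg9.Node.flat_quotientMap' I₀)
  let iAS : Algebra A (S₀ ⧸ IS) := φ.toAlgebra
  have hφρ : φ.comp ρ = (Ideal.Quotient.mk IS).comp τ := RingHom.ext fun r => by
    show algebraMap (R ⧸ I₀) (S₀ ⧸ IS) (eA.symm (ρ r)) = _
    rw [show eA.symm (ρ r) = Ideal.Quotient.mk I₀ r from eA.symm_apply_eq.2 rfl]
    rfl
  have hfib : (maximalIdeal A).map (algebraMap A (S₀ ⧸ IS)) = MS.map (Ideal.Quotient.mk IS) := by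
    rw [← hmax, Ideal.map_map, Ideal.map_map, Ideal.map_map, RingHom.comp_assoc,
      show (algebraMap (R ⧸ I₀) A).comp (Ideal.Quotient.mk I₀) = ρ from RingHom.ext fun r => rfl]
    exact congrArg (fun f => Ideal.map f (maximalIdeal R)) hφρ
  let g : (S₀ ⧸ IS) →ₐ[A] B :=
    { Ideal.Quotient.lift IS σ fun s hs => hIJ hs with
      commutes' := fun a => by
        obtain ⟨r, rfl⟩ := hρ a
        show Ideal.Quotient.lift IS σ _ (φ.comp ρ r) = _
        rw [hφρ]
        exact hc r }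
  refine ⟨S₀ ⧸ IS, inferInstance, inferInstance, inferInstance, iAS, hφ,
    IsRegularLocalRing.of_ringEquiv ((DoubleQuot.quotQuotEquivQuotOfLE hISm).symm.trans
      (Ideal.quotEquivOfEq hfib.symm)), ⟨fun a ha => isUnit_of_map_unit (algebraMap A B) a (by
        rw [← AlgHom.commutes g a]; exact ha.map g)⟩, g,
    Ideal.Quotient.lift_surjective_of_surjective IS _ hσ⟩

end Groth.Agent.TorDimLCI19
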