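import Groth.Agent.TorDimLCI19.FibreTor
import Groth.Agent.TorDimLCI19.Regular
import Groth.Agent.CAlg1.Regular
import Groth.Agent.RelGCI94.CountCI
import Mathlib.RingTheory.Flat.FaithfullyFlat.Algebra

/-!
Regular ideals and finite Tor dimension over a flat local map with regular closed fibre.
-/

set_option autoImplicit false
set_option linter.unusedSectionVars false
universe u

open CategoryTheory CategoryTheory.Limits IsLocalRing RingTheory.Sequence TensorProduct

namespace Groth.Agent.TorDimLCI19

open CAlg9.RegSeq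

theorem exists_minimal_gens {A : Type u} [CommRing A] [IsNoetherianRing A] (I : Ideal A) :
    ∃ (q : ℕ) (g : Fin q → A), Ideal.span (Set.range g) = I ∧ q = I.spanFinrank := by
  obtain ⟨s, hs, hspan⟩ := (IsNoetherian.noetherian I).exists_span_set_encard_eq_spanFinrank
  have hfin : s.Finite := Set.finite_of_encard_eq_coe hs
  refine ⟨hfin.toFinset.card, fun i => (hfin.toFinset.equivFin.symm i).1, ?_, ?_⟩
  · rw [← hspan]
    show Ideal.span _ = Ideal.span s
    congr 1
    ext x
    exact ⟨fun ⟨i, hi⟩ => hi ▸ hfin.mem_toFinset.1 (hfin.toFinset.equivFin.symm i).2,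
      fun hx => ⟨hfin.toFinset.equivFin ⟨x, hfin.mem_toFinset.2 hx⟩, by simp⟩⟩
  · have := hfin.encard_eq_coe_toFinset_card
    rw [hs] at this
    exact_mod_cast this.symm

section Descent

variable {R S : Type u} [CommRing R] [CommRing S] [IsNoetherianRing R] [IsNoetherianRing S]
  [IsLocalRing R] [IsLocalRing S] [Algebra R S] [IsLocalHom (algebraMap R S)] [Module.Flat R S]

theorem isRegularIdeal_map {I : Ideal R} (hI : I ≠ ⊤) (h : CInt.IsRegularIdeal I) :
    CInt.IsRegularIdeal (I.map (algebraMap R S)) := by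
  obtain ⟨rs, hrs, rfl⟩ := h
  refine ⟨rs.map (algebraMap R S), CAlg1.isRegular_of_isWeaklyRegular
    (hrs.toIsWeaklyRegular.of_flat) ?_, (Ideal.map_ofList _ rs).symm⟩
  intro y hy
  obtain ⟨x, hx, rfl⟩ := List.mem_map.1 hy
  exact map_maximalIdeal_le (algebraMap R S) (Ideal.mem_map_of_mem _
    (le_maximalIdeal hI (Ideal.subset_span hx)))

theorem isRegularIdeal_of_map {I : Ideal R} (hI : I ≠ ⊤)
    (h : CInt.IsRegularIdeal (I.map (algebraMap R S))) : CInt.IsRegularIdeal I := by
  have : Module.FaithfullyFlat R S := Module.FaithfullyFlat.of_flat_of_isLocalHom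
  obtain ⟨q, g, hg, hq⟩ := exists_minimal_gens I
  have hspan : Ideal.span (Set.range fun i => algebraMap R S (g i)) = I.map (algebraMap R S) := by
    rw [← hg, Ideal.map_span, ← Set.range_comp]
    rfl
  have hreg := isRegular_of_minimal h (fun i => algebraMap R S (g i)) hspan
    (by rw [RelGCI94.spanFinrank_map_of_flat, hq])
  have hmap : List.ofFn (fun i => algebraMap R S (g i)) = (List.ofFn g).map (algebraMap R S) := by
    rw [List.map_ofFn]; rfl
  rw [hmap] at hreg
  refine ⟨List.ofFn g, CAlg1.isRegular_of_isWeaklyRegular ?_ (fun y hy => ?_),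
    by rw [ofList_ofFn, hg]⟩
  · have hw := (isWeaklyRegular_iff S _).1 hreg.toIsWeaklyRegular
    rw [isWeaklyRegular_iff]
    intro i hi
    have h' := hw i (by simpa using hi)
    rw [List.getElem_map, ← List.map_take, ← Ideal.map_ofList] at h'
    rw [isSMulRegular_iff_right_eq_zero_of_smul]
    intro z hz
    obtain ⟨z, rfl⟩ := Submodule.Quotient.mk_surjective _ z
    rw [← Submodule.Quotient.mk_smul, Submodule.Quotient.mk_eq_zero] at hz
    rw [Submodule.Quotient.mk_eq_zero]
    rw [smul_eq_mul, Ideal.mul_top] at hz ⊢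
    rw [isSMulRegular_iff_right_eq_zero_of_smul] at h'
    have h2 := h' (Submodule.Quotient.mk (algebraMap R S z)) (by
      rw [← Submodule.Quotient.mk_smul, Submodule.Quotient.mk_eq_zero, smul_eq_mul, smul_eq_mul,
        Ideal.mul_top, ← map_mul]
      exact Ideal.mem_map_of_mem _ hz)
    rw [Submodule.Quotient.mk_eq_zero, smul_eq_mul, Ideal.mul_top, ← Ideal.mem_comap,
      Ideal.comap_map_eq_self_of_faithfullyFlat] at h2
    exact h2
  · refine le_maximalIdeal hI ?_
    rw [← hg]
    obtain ⟨i, rfl⟩ := List.mem_ofFn.1 hy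
    exact Ideal.subset_span ⟨i, rfl⟩

end Descent

section Quotient

variable {A' : Type u} [CommRing A'] {S' : Type u} [CommRing S'] [Algebra A' S'] [Module.Flat A' S']
  (M : Type u) [AddCommGroup M] [Module S' M] [Module A' M] [IsScalarTower A' S' M]

/-- a quotient by a regular sequence of a flat algebra has finite Tor dimension below -/
theorem hasFiniteTorDim_of_regular (ys : List S') (hys : IsWeaklyRegular S' ys)
    (π : S' →ₗ[S'] M) (hπ : Function.Surjective π)
    (hker : LinearMap.ker π = Ideal.ofList ys) : DRing.HasFiniteTorDim A' M := by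
  have hproj : HasProjectiveDimensionLT (ModuleCat.of S' S') (0 + 1) := by
    rw [zero_add, ← projective_iff_hasProjectiveDimensionLT_one]
    exact ModuleCat.projective_of_free (Module.Basis.singleton Unit S')
  have h := hasPD_quotient_seq ys S' 0 hys hproj
  let e : (S' ⧸ (Ideal.ofList ys • ⊤ : Submodule S' S')) ≃ₗ[S'] M :=
    (Submodule.quotEquivOfEq _ _ (by rw [hker, smul_eq_mul, Ideal.mul_top])).trans
      (π.quotKerEquivOfSurjective hπ)
  exact ⟨0 + ys.length, hasTorDimLE_restrict M _
    (hasTorDimLE_of_hasPD M _ (hasProjectiveDimensionLT_of_iso e.toModuleIso _))⟩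

/-- finitely many Tor against the residue field give finite projective dimension over the algebra -/
theorem hasFiniteTorDim_top [IsLocalRing S'] [IsNoetherianRing S'] [Module.Finite S' M]
    (m' : Ideal A') (hF : IsRegularLocalRing (S' ⧸ m'.map (algebraMap A' S')))
    (hfin : {p : ℕ | ¬Subsingleton (DRing.Tor A' p M (A' ⧸ m'))}.Finite) :
    DRing.HasFiniteTorDim S' M := by
  obtain ⟨N, hN⟩ := hfin.bddAbove
  let n₀ := m'.map (algebraMap A' S')
  let F := S' ⧸ n₀
  have hloc := hF.toIsLocalRing
  have hn0 : n₀ ≤ maximalIdeal S' := le_maximalIdeal fun h =>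
    not_subsingleton F (Ideal.Quotient.subsingleton_iff.2 h)
  have h0 : ∀ p, N < p → IsZero (((Tor (ModuleCat.{u} S') p).obj (ModuleCat.of S' F)).obj
      (ModuleCat.of S' M)) := by
    intro p hp
    have hs : Subsingleton (DRing.Tor A' p M (A' ⧸ m')) := by
      by_contra h
      exact absurd (hN h) (not_le.2 hp)
    have h1 := (tor_base_iff (A := A') (R := S') M (A' ⧸ m') p).1 hs
    let e : (S' ⊗[A'] (A' ⧸ m')) ≃ₗ[S'] F :=
      (Algebra.TensorProduct.quotIdealMapEquivTensorQuot S' m').toLinearEquiv.symm
    exact isZero_tor_congr_left e _ p (isZero_tor_symm p (ModuleCat.isZero_of_subsingleton _))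
  obtain ⟨q, g, hg, hq⟩ := exists_minimal_gens (maximalIdeal F)
  choose y hy using fun i => Ideal.Quotient.mk_surjective (g i)
  have hw : IsWeaklyRegular F (List.ofFn y) := by
    rw [← isWeaklyRegular_map_algebraMap_iff F, List.map_ofFn,
      show (algebraMap S' F ∘ y) = g from funext hy]
    exact CAlg1.isWeaklyRegular_params F _ (by rw [ofList_ofFn, hg]) (by rw [List.length_ofFn, hq])
  have hmax : n₀ ⊔ Ideal.ofList (List.ofFn y) = maximalIdeal S' := by
    have h2 : maximalIdeal S' = (maximalIdeal F).comap (Ideal.Quotient.mk n₀) :=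
      (CAlg1.comap_maximalIdeal_of_surjective _ Ideal.Quotient.mk_surjective).symm
    rw [h2, ← hg, ofList_ofFn, show Set.range g = Ideal.Quotient.mk n₀ '' Set.range y by
      rw [← Set.range_comp]; exact congrArg Set.range (funext fun i => (hy i).symm),
      ← Ideal.map_span, Ideal.comap_map_of_surjective _ Ideal.Quotient.mk_surjective,
      ← RingHom.ker_eq_comap_bot, Ideal.mk_ker, sup_comm]
  let ρ : F →ₗ[S'] ResidueField S' := Submodule.liftQ n₀ (Algebra.linearMap S' (ResidueField S'))
    fun x hx => (residue_eq_zero_iff x).2 (hn0 hx)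
  have hρ : Function.Surjective ρ := fun z => by
    obtain ⟨x, rfl⟩ := residue_surjective z
    exact ⟨Submodule.Quotient.mk x, rfl⟩
  have hρk : LinearMap.ker ρ = (Ideal.ofList (List.ofFn y) • ⊤ : Submodule S' F) := by
    apply le_antisymm
    · intro z hz
      obtain ⟨x, rfl⟩ := Submodule.Quotient.mk_surjective _ z
      have hx : x ∈ maximalIdeal S' := (residue_eq_zero_iff x).1 hz
      rw [← hmax, Submodule.mem_sup] at hx
      obtain ⟨a, ha, b, hb, rfl⟩ := hx
      rw [Submodule.Quotient.mk_add, (Submodule.Quotient.mk_eq_zero _).2 ha, zero_add,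
        show (Submodule.Quotient.mk b : F) = b • (Submodule.Quotient.mk 1 : F) by
          rw [← Submodule.Quotient.mk_smul, smul_eq_mul, mul_one]]
      exact Submodule.smul_mem_smul hb trivial
    · refine Submodule.smul_le.2 fun a ha z _ => ?_
      rw [LinearMap.mem_ker, map_smul]
      show algebraMap S' (ResidueField S') a * ρ z = 0
      rw [show algebraMap S' (ResidueField S') a = 0 from
        (residue_eq_zero_iff a).2 (hmax ▸ Submodule.mem_sup_right ha), zero_mul]
  have h3 := isZero_tor_quotient_seq (List.ofFn y) F (ModuleCat.of S' M) N hw h0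
    (N + (List.ofFn y).length + 1) (by omega)
  have h4 := isZero_tor_congr_left
    ((Submodule.quotEquivOfEq _ _ hρk.symm).trans (ρ.quotKerEquivOfSurjective hρ)) _ _ h3
  exact ⟨_, hasTorDimLE_of_hasPD M _
    (EGA4Alg4.hasProjectiveDimensionLT_of_isZero_tor (N + (List.ofFn y).length) M h4)⟩

end Quotient

end Groth.Agent.TorDimLCI19
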