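import Groth.Agent.IntMult12.TorFlat
import Groth.Agent.TorDimLCI19.TorBasic
import Groth.Agent.TorMod7.PD
import Groth.Agent.EGA4Alg4.TorPD
import Groth.Agent.EGA4H10.ProjDim
import Mathlib.RingTheory.Regular.RegularSequence

/-!
Tor over a flat algebra against modules of the algebra; projective and flat dimension along regular
sequences.
-/

set_option autoImplicit false
set_option linter.unusedSectionVars false
universe u

open CategoryTheory CategoryTheory.Limits TensorProduct RingTheory.Sequence
open scoped Pointwise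

namespace Groth.Agent.TorDimLCI19

variable {A : Type u} [CommRing A]

/-- the free cover by all elements -/
noncomputable def cov (M : ModuleCat.{u} A) : ((M : Type u) →₀ A) →ₗ[A] (M : Type u) :=
  Finsupp.linearCombination A id

theorem cov_surjective (M : ModuleCat.{u} A) : Function.Surjective (cov M) := fun y =>
  ⟨Finsupp.single y 1, by simp [cov]⟩

/-- iterated syzygies -/
noncomputable def syz (N : ModuleCat.{u} A) : ℕ → ModuleCat.{u} A
  | 0 => N
  | i + 1 => ModuleCat.of A (LinearMap.ker (cov (syz N i)))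

/-- the inclusion of a syzygy -/
noncomputable def syzInc (N : ModuleCat.{u} A) (i : ℕ) :
    (syz N (i + 1) : Type u) →ₗ[A] ((syz N i : Type u) →₀ A) :=
  (LinearMap.ker (cov (syz N i))).subtype

theorem exists_proj_cx (N : Type u) [AddCommGroup N] [Module A N] :
    ∃ (F : IntMult12.Cx A) (f : F.X 0 →ₗ[A] N), (∀ i, Module.Projective A (F.X i)) ∧
      Function.Surjective f ∧ LinearMap.ker f = LinearMap.range (F.d 0) ∧
      ∀ i, LinearMap.ker (F.d i) = LinearMap.range (F.d (i + 1)) := by
  let K := syz (ModuleCat.of A N)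
  let d : ∀ i, ((K (i + 1) : Type u) →₀ A) →ₗ[A] ((K i : Type u) →₀ A) := fun i =>
    syzInc (ModuleCat.of A N) i ∘ₗ cov (K (i + 1))
  have hr : ∀ i, LinearMap.range (d i) = LinearMap.ker (cov (K i)) := fun i => by
    show LinearMap.range (syzInc (ModuleCat.of A N) i ∘ₗ cov (K (i + 1))) = _
    rw [LinearMap.range_comp, LinearMap.range_eq_top.2 (cov_surjective (K (i + 1))), Submodule.map_top]
    exact Submodule.range_subtype _
  have hk : ∀ i, LinearMap.ker (d i) = LinearMap.range (d (i + 1)) := fun i => by
    rw [hr]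
    exact LinearMap.ker_comp_of_ker_eq_bot _ (Submodule.ker_subtype _)
  refine ⟨⟨fun i => (K i : Type u) →₀ A, d, fun i x => ?_⟩, cov (K 0), fun i => ?_,
    cov_surjective _, (hr 0).symm, hk⟩
  · have : d (i + 1) x ∈ LinearMap.ker (d i) := by rw [hk]; exact ⟨x, rfl⟩
    exact this
  · exact (inferInstance : Module.Projective A ((K i : Type u) →₀ A))

theorem subsingleton_H_iff (C : IntMult12.Cx A) (i : ℕ) :
    Subsingleton (C.H i) ↔ ∀ z ∈ C.Z i, ∃ x, C.d i x = z := by
  rw [Submodule.Quotient.subsingleton_iff, Submodule.eq_top_iff']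
  exact ⟨fun h z hz => h ⟨z, hz⟩, fun h z => h z.1 z.2⟩

variable {R : Type u} [CommRing R] [Algebra A R]

/-- `Tor^A(X, N)` and `Tor^R(X, R ⊗ N)` vanish together for flat `R`. -/
theorem tor_base_iff [Module.Flat A R] (X : Type u) [AddCommGroup X] [Module R X] [Module A X]
    [IsScalarTower A R X] (N : Type u) [AddCommGroup N] [Module A N] (i : ℕ) :
    Subsingleton (DRing.Tor A i X N) ↔ Subsingleton (DRing.Tor R i X (R ⊗[A] N)) := by
  obtain ⟨F, f, hproj, hf, h0, hs⟩ := exists_proj_cx (A := A) N
  obtain ⟨eR⟩ := IntMult12.nonempty_tor_tens (R := R) N F hproj f hf h0 hs X i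
  obtain ⟨eA⟩ := IntMult12.nonempty_tor_equiv_H X N F hproj f hf h0 hs i
  have hR : Subsingleton (DRing.Tor R i X (R ⊗[A] N)) ↔
      Subsingleton ((IntMult12.Cx.tens (R := R) X F).H i) := eR.toEquiv.subsingleton_congr
  have hA : Subsingleton (DRing.Tor A i X N) ↔
      Subsingleton ((IntMult12.Cx.tens (R := A) X F).H i) := eA.toEquiv.subsingleton_congr
  rw [hR, hA, subsingleton_H_iff, subsingleton_H_iff]
  have hd : ∀ (j : ℕ) (z : X ⊗[A] F.X (j + 1)),
      AlgebraTensorModule.lTensor R X (F.d j) z = AlgebraTensorModule.lTensor A X (F.d j) z := fun j z => by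
    induction z with
    | zero => simp
    | tmul a b => rfl
    | add a b ha hb => rw [map_add, map_add, ha, hb]
  cases i with
  | zero =>
    exact forall_congr' fun z => imp_congr Iff.rfl
      (exists_congr fun x => Iff.of_eq (congrArg (· = z) (hd 0 x).symm))
  | succ j =>
    exact forall_congr' fun z => imp_congr (Iff.of_eq (congrArg (· = 0) (hd j z).symm))
      (exists_congr fun x => Iff.of_eq (congrArg (· = z) (hd (j + 1) x).symm))

/-- projective dimension along a regular sequence -/
theorem hasPD_quotient_seq (rs : List A) : ∀ (M : Type u) [AddCommGroup M] [Module A M] (n : ℕ),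
    IsWeaklyRegular M rs → HasProjectiveDimensionLT (ModuleCat.of A M) (n + 1) →
    HasProjectiveDimensionLT (ModuleCat.of A (M ⧸ (Ideal.ofList rs • ⊤ : Submodule A M)))
      (n + rs.length + 1) := by
  induction rs with
  | nil =>
    intro M _ _ n _ h
    exact hasProjectiveDimensionLT_of_iso
      (Submodule.quotEquivOfEqBot _ (by simp)).toModuleIso.symm (n + 1)
  | cons x l ih =>
    intro M _ _ n hreg h
    rw [isWeaklyRegular_cons_iff] at hreg
    have hses : (ShortComplex.mk (ModuleCat.ofHom (LinearMap.lsmul A M x))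
        (ModuleCat.ofHom (x • ⊤ : Submodule A M).mkQ) (by
          ext m
          exact (Submodule.Quotient.mk_eq_zero _).2 (Submodule.smul_mem_pointwise_smul m x ⊤ trivial))
        ).ShortExact :=
      { exact := by
          rw [ShortComplex.moduleCat_exact_iff]
          intro m hm
          obtain ⟨y, -, hy⟩ := (Submodule.mem_smul_pointwise_iff_exists _ _ _).1
            ((Submodule.Quotient.mk_eq_zero _).1 hm)
          exact ⟨y, hy⟩
        mono_f := (ModuleCat.mono_iff_injective _).2 hreg.1
        epi_g := (ModuleCat.epi_iff_surjective _).2 (Submodule.mkQ_surjective _) }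
    have h2 : HasProjectiveDimensionLT (ModuleCat.of A (QuotSMulTop x M)) (n + 1 + 1) :=
      hses.hasProjectiveDimensionLT_X₃ (n + 1) h
        (hasProjectiveDimensionLT_of_ge _ (n + 1) (n + 1 + 1) (by omega))
    have h3 := ih (QuotSMulTop x M) (n + 1) hreg.2 h2
    rw [show n + 1 + l.length + 1 = n + (x :: l).length + 1 by simp; omega] at h3
    exact hasProjectiveDimensionLT_of_iso
      (Submodule.quotOfListConsSMulTopEquivQuotSMulTopInner M x l).toModuleIso.symm _

/-- vanishing of `Tor` along a regular sequence -/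
theorem isZero_tor_quotient_seq (rs : List A) : ∀ (X : Type u) [AddCommGroup X] [Module A X]
    (S : ModuleCat.{u} A) (N : ℕ), IsWeaklyRegular X rs →
    (∀ p, N < p → IsZero (((Tor (ModuleCat.{u} A) p).obj (ModuleCat.of A X)).obj S)) →
    ∀ p, N + rs.length < p → IsZero (((Tor (ModuleCat.{u} A) p).obj
      (ModuleCat.of A (X ⧸ (Ideal.ofList rs • ⊤ : Submodule A X)))).obj S) := by
  induction rs with
  | nil =>
    intro X _ _ S N _ h p hp
    exact isZero_tor_congr_left (Submodule.quotEquivOfEqBot _ (by simp)).symm S p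
      (h p (by simpa using hp))
  | cons x l ih =>
    intro X _ _ S N hreg h p hp
    rw [isWeaklyRegular_cons_iff] at hreg
    refine isZero_tor_congr_left
      (Submodule.quotOfListConsSMulTopEquivQuotSMulTopInner X x l).symm S p ?_
    refine ih (QuotSMulTop x X) S (N + 1) hreg.2 (fun q hq => ?_) p (by simp at hp; omega)
    obtain ⟨i, rfl⟩ : ∃ i, q = i + 1 := ⟨q - 1, by omega⟩
    refine isZero_tor_right (LinearMap.lsmul A X x) (x • ⊤ : Submodule A X).mkQ hreg.1
      (fun z => ?_) (Submodule.mkQ_surjective _) S i (h i (by omega)) (h (i + 1) (by omega))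
    rw [Submodule.mkQ_apply, Submodule.Quotient.mk_eq_zero, Submodule.mem_smul_pointwise_iff_exists]
    exact ⟨fun ⟨y, _, hy⟩ => ⟨y, hy⟩, fun ⟨y, hy⟩ => ⟨y, trivial, hy⟩⟩

/-- finite projective dimension gives finite Tor dimension -/
theorem hasTorDimLE_of_hasPD (M : Type u) [AddCommGroup M] [Module A M] (n : ℕ)
    (h : HasProjectiveDimensionLT (ModuleCat.of A M) (n + 1)) : DRing.HasTorDimLE A n M := by
  intro N _ _ p hp
  refine (ModuleCat.isZero_of_iff_subsingleton
    (M := ((Tor (ModuleCat.{u} A) p).obj (ModuleCat.of A M)).obj (ModuleCat.of A N))).1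
    (isZero_tor_symm p ?_)
  exact TorMod7.isZero_leftDerived_of_hasProjectiveDimensionLT _ (ModuleCat.of A M) n p hp

theorem hasTorDimLE_restrict [Module.Flat A R] (M : Type u) [AddCommGroup M] [Module R M] [Module A M]
    [IsScalarTower A R M] (n : ℕ) (h : DRing.HasTorDimLE R n M) : DRing.HasTorDimLE A n M :=
  fun N _ _ p hp => (tor_base_iff M N p).2 (h (R ⊗[A] N) p hp)

end Groth.Agent.TorDimLCI19
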